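import Mathlib
import Cfsg.Prelude.Def_Solvable
import Cfsg.Agent.Lib.H1.Cores
import Cfsg.Agent.Lib.H26.Subnormal
import Cfsg.Agent.Lib.H11.SubnormalMore
import Cfsg.Agent.Lib.H71.Basic

set_option autoImplicit false
open Cfsg

/-! The subnormalizer `{g | H subnormal in ⟨H, g⟩}` of a `p`-subgroup `H`. -/

namespace H71.Subnormalizer

open Subgroup

variable {G : Type*} [Group G] [Finite G]

/-- `H` is subnormal in `⟨H, g⟩` iff `g` normalizes some `p`-subgroup containing `H`. -/
theorem isSubnormal_iff (p : ℕ) [Fact p.Prime] (H : Subgroup G) (hH : IsPGroup p H) (g : G) :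
    ((H).subgroupOf (H ⊔ Subgroup.zpowers g)).IsSubnormal ↔
      ∃ R : Subgroup G, IsPGroup p R ∧ H ≤ R ∧ g ∈ normalizer (R : Set G) := by
  set K := H ⊔ Subgroup.zpowers g with hK
  have hHK : H ≤ K := le_sup_left
  have hgK : g ∈ K := (le_sup_right : Subgroup.zpowers g ≤ K) (Subgroup.mem_zpowers g)
  constructor
  · intro h
    have hp : IsPGroup p (H.subgroupOf K) := hH.comap_subtype
    have h1 := H26.Subnormal.le_pCore h hp
    refine ⟨(pCore p K).map K.subtype, (H1.Cores.isPGroup_pCore p).map _, ?_, ?_⟩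
    · intro x hx
      exact ⟨⟨x, hHK hx⟩, h1 (Subgroup.mem_subgroupOf.2 hx), rfl⟩
    · rw [Subgroup.mem_normalizer_iff]
      have hn : (pCore p K).Normal := inferInstance
      have key : ∀ y ∈ K, ∀ x ∈ (pCore p K).map K.subtype, y * x * y⁻¹ ∈ (pCore p K).map K.subtype := by
        rintro y hy x ⟨z, hz, rfl⟩
        exact ⟨⟨y, hy⟩ * z * ⟨y, hy⟩⁻¹, hn.conj_mem z hz _, rfl⟩
      intro x
      refine ⟨key g hgK x, fun hx => ?_⟩
      have := key g⁻¹ (K.inv_mem hgK) _ hx
      have e : g⁻¹ * (g * x * g⁻¹) * g⁻¹⁻¹ = x := by group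
      rwa [e] at this
  · rintro ⟨R, hR, hHR, hgR⟩
    have hKR : K ≤ normalizer (R : Set G) := by
      refine sup_le (hHR.trans Subgroup.le_normalizer) ?_
      rw [Subgroup.zpowers_le]; exact hgR
    have hRn : (R.subgroupOf K).Normal := by
      constructor
      intro x hx k
      rw [Subgroup.mem_subgroupOf] at hx ⊢
      exact (Subgroup.mem_normalizer_iff.1 (hKR k.2) _).1 hx
    have hRp : IsPGroup p (R.subgroupOf K) := hR.comap_subtype
    have hnil : Group.IsNilpotent (R.subgroupOf K) := hRp.isNilpotent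
    have hle : H.subgroupOf K ≤ R.subgroupOf K := fun x hx => Subgroup.mem_subgroupOf.2 (hHR (Subgroup.mem_subgroupOf.1 hx))
    exact Subgroup.IsSubnormal.trans hle (H11.SubnormalMore.isSubnormal_of_isNilpotent _) hRn.isSubnormal

end H71.Subnormalizer
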