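import Mathlib
import Cfsg.Agent.Lib.H71.Subnormalizer

set_option autoImplicit false
open Cfsg

/-! Alternating sums over normal chains of `p`-subgroups containing a fixed `p`-subgroup `H`; Casolo's theorem
on the number of elements of the subnormalizer of a `p`-subgroup. -/

namespace H71.PChains

open Subgroup

section tog

variable {α : Type*} [DecidableEq α]

/-- toggle the membership of `a` -/
def tog (a : α) (σ : Finset α) : Finset α := if a ∈ σ then σ.erase a else insert a σ

theorem mem_tog_self {a : α} {σ : Finset α} : a ∈ tog a σ ↔ a ∉ σ := by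
  unfold tog; split_ifs with h <;> simp [h]

theorem tog_tog (a : α) (σ : Finset α) : tog a (tog a σ) = σ := by
  unfold tog
  split_ifs with h h2 h2
  · simp at h2
  · rw [Finset.insert_erase h]
  · rw [Finset.erase_insert h]
  · exact absurd (Finset.mem_insert_self a σ) h2

theorem tog_ne (a : α) (σ : Finset α) : tog a σ ≠ σ := by
  intro h
  have := mem_tog_self (a := a) (σ := σ)
  rw [h] at this
  tauto

theorem sign_tog (a : α) (σ : Finset α) : (-1 : ℤ) ^ (tog a σ).card = - (-1) ^ σ.card := by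
  unfold tog
  split_ifs with h
  · have := Finset.card_erase_add_one h
    rw [← this, pow_succ]; ring
  · rw [Finset.card_insert_of_notMem h, pow_succ]; ring

theorem sum_tog (S : Finset (Finset α)) (t : Finset α → α) (f : Finset α → ℤ)
    (hmem : ∀ σ ∈ S, tog (t σ) σ ∈ S) (ht : ∀ σ ∈ S, t (tog (t σ) σ) = t σ)
    (hf : ∀ σ ∈ S, f (tog (t σ) σ) = - f σ) : ∑ σ ∈ S, f σ = 0 := by
  refine Finset.sum_involution (fun σ _ => tog (t σ) σ) ?_ ?_ ?_ ?_
  · intro σ hσ; rw [hf σ hσ]; ring
  · intro σ hσ _; exact tog_ne _ _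
  · intro σ hσ; exact hmem σ hσ
  · intro σ hσ; rw [ht σ hσ, tog_tog]

end tog

variable {G : Type*} [Group G]

/-- comparable and normal -/
def Adj (R S : Subgroup G) : Prop :=
  (R ≤ S ∧ S ≤ normalizer (R : Set G)) ∨ (S ≤ R ∧ R ≤ normalizer (S : Set G))

theorem Adj.refl (R : Subgroup G) : Adj R R := Or.inl ⟨le_rfl, Subgroup.le_normalizer⟩

theorem Adj.symm {R S : Subgroup G} (h : Adj R S) : Adj S R := h.elim Or.inr Or.inl

/-- normal chains of `p`-subgroups containing `H` -/
def IsCh (p : ℕ) (H : Subgroup G) (σ : Finset (Subgroup G)) : Prop :=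
  σ.Nonempty ∧ (∀ R ∈ σ, IsPGroup p R ∧ H ≤ R) ∧ ∀ R ∈ σ, ∀ S ∈ σ, Adj R S

/-- the stabilizer of a chain -/
def stab (σ : Finset (Subgroup G)) : Subgroup G := ⨅ R ∈ σ, normalizer (R : Set G)

theorem mem_stab {σ : Finset (Subgroup G)} {g : G} : g ∈ stab σ ↔ ∀ R ∈ σ, g ∈ normalizer (R : Set G) := by
  simp [stab, Subgroup.mem_iInf]

theorem le_stab {σ : Finset (Subgroup G)} {X : Subgroup G} : X ≤ stab σ ↔ ∀ R ∈ σ, X ≤ normalizer (R : Set G) := by
  simp [stab]

open Classical in
theorem stab_insert (S : Subgroup G) (σ : Finset (Subgroup G)) :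
    stab (insert S σ) = normalizer (S : Set G) ⊓ stab σ := by
  ext g; simp [mem_stab, Subgroup.mem_inf]

/-- the largest member of a chain -/
noncomputable def top (σ : Finset (Subgroup G)) : Subgroup G := σ.sup id

open Classical in
theorem top_insert (S : Subgroup G) (σ : Finset (Subgroup G)) : top (insert S σ) = S ⊔ top σ := by
  simp [top, Finset.sup_insert]

theorem le_top_of_mem {σ : Finset (Subgroup G)} {R : Subgroup G} (h : R ∈ σ) : R ≤ top σ :=
  Finset.le_sup (f := id) h

theorem IsCh.exists_top {p : ℕ} {H : Subgroup G} {σ : Finset (Subgroup G)} (h : IsCh p H σ) :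
    ∃ R ∈ σ, ∀ S ∈ σ, S ≤ R ∧ R ≤ normalizer (S : Set G) := by
  obtain ⟨hne, -, hadj⟩ := h
  obtain ⟨R, hR⟩ := Finset.exists_maximal hne
  refine ⟨R, hR.1, fun S hS => ?_⟩
  rcases hadj R hR.1 S hS with ⟨h1, h2⟩ | h1
  · have : S ≤ R := hR.2 hS h1
    have e : S = R := le_antisymm this h1
    subst e
    exact ⟨le_rfl, Subgroup.le_normalizer⟩
  · exact h1

theorem IsCh.top_mem {p : ℕ} {H : Subgroup G} {σ : Finset (Subgroup G)} (h : IsCh p H σ) : top σ ∈ σ := by
  obtain ⟨R, hR, hle⟩ := h.exists_top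
  have : top σ = R := le_antisymm (Finset.sup_le fun S hS => (hle S hS).1) (le_top_of_mem hR)
  rw [this]; exact hR

theorem IsCh.top_le {p : ℕ} {H : Subgroup G} {σ : Finset (Subgroup G)} (h : IsCh p H σ) : top σ ≤ stab σ := by
  obtain ⟨R, hR, hle⟩ := h.exists_top
  have : top σ = R := le_antisymm (Finset.sup_le fun S hS => (hle S hS).1) (le_top_of_mem hR)
  rw [this, le_stab]
  exact fun S hS => (hle S hS).2

/-- maximal `p`-subgroups of `X` -/
def IsMaxP (p : ℕ) (X S : Subgroup G) : Prop :=
  S ≤ X ∧ IsPGroup p S ∧ ∀ T : Subgroup G, IsPGroup p T → T ≤ X → S ≤ T → T = S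

theorem IsMaxP.to_inf {p : ℕ} {X S : Subgroup G} (h : IsMaxP p X S) : IsMaxP p (normalizer (S : Set G) ⊓ X) S :=
  ⟨le_inf Subgroup.le_normalizer h.1, h.2.1, fun T hT hTX => h.2.2 T hT (hTX.trans inf_le_right)⟩

variable [Finite G]

/-- normalizers grow in `p`-groups -/
theorem lt_normalizer_inf {p : ℕ} [Fact p.Prime] {S T : Subgroup G} (hT : IsPGroup p T) (hlt : S < T) :
    S < normalizer (S : Set G) ⊓ T := by
  have hnil : Group.IsNilpotent T := hT.isNilpotent
  have hnc : NormalizerCondition T := Group.normalizerCondition_of_isNilpotent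
  have h1 : S.subgroupOf T < ⊤ := by
    rw [lt_top_iff_ne_top]
    intro h
    rw [Subgroup.subgroupOf_eq_top] at h
    exact absurd h (not_le_of_gt hlt)
  have h2 := hnc _ h1
  refine lt_of_le_of_ne (le_inf Subgroup.le_normalizer hlt.le) ?_
  intro h
  obtain ⟨x, hx1, hx2⟩ := SetLike.exists_of_lt h2
  apply hx2
  rw [Subgroup.mem_subgroupOf, h]
  refine ⟨?_, x.2⟩
  apply Subgroup.mem_normalizer_fintype
  intro s hs
  have := (Subgroup.mem_normalizer_iff.1 hx1 ⟨s, hlt.le hs⟩).1 (Subgroup.mem_subgroupOf.2 hs)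
  exact Subgroup.mem_subgroupOf.1 this

theorem IsMaxP.of_inf {p : ℕ} [Fact p.Prime] {X S : Subgroup G} (h : IsMaxP p (normalizer (S : Set G) ⊓ X) S) :
    IsMaxP p X S := by
  refine ⟨h.1.trans inf_le_right, h.2.1, fun T hT hTX hST => ?_⟩
  by_contra hne
  have hlt : S < T := lt_of_le_of_ne hST (Ne.symm hne)
  have h1 := lt_normalizer_inf hT hlt
  have h2 := h.2.2 (normalizer (S : Set G) ⊓ T) (hT.to_le inf_le_right) (inf_le_inf_left _ hTX) h1.le
  exact h1.ne h2.symm

theorem IsMaxP.le_of_normal {p : ℕ} [Fact p.Prime] {X S R : Subgroup G} (h : IsMaxP p X S) (hR : IsPGroup p R)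
    (hRX : R ≤ X) (hX : X ≤ normalizer (R : Set G)) : R ≤ S := by
  have h1 : IsPGroup p (S ⊔ R : Subgroup G) := by
    have := IsPGroup.to_sup_of_normal_right' h.2.1 hR (h.1.trans hX)
    exact this
  have h2 := h.2.2 _ h1 (sup_le h.1 hRX) le_sup_left
  rw [← h2]; exact le_sup_right

/-- `IsMaxP p X S` are the Sylow subgroups of `X` -/
noncomputable def maxPEquiv (p : ℕ) (X : Subgroup G) : {S : Subgroup G // IsMaxP p X S} ≃ Sylow p X where
  toFun S :=
    { toSubgroup := S.1.subgroupOf X
      isPGroup' := S.2.2.1.comap_subtype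
      is_maximal' := by
        intro Q hQ hle
        have h1 := S.2.2.2 (Q.map X.subtype) (hQ.map _) (Subgroup.map_subtype_le _) (by
          intro s hs
          exact ⟨⟨s, S.2.1 hs⟩, hle (Subgroup.mem_subgroupOf.2 hs), rfl⟩)
        rw [← h1]
        exact (Subgroup.comap_map_eq_self_of_injective X.subtype_injective Q).symm }
  invFun P := ⟨(P : Subgroup X).map X.subtype, Subgroup.map_subtype_le _, P.isPGroup'.map _, by
    intro T hT hTX hle
    have h1 : (T.subgroupOf X) = (P : Subgroup X) := P.is_maximal' hT.comap_subtype (by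
      intro s hs
      exact Subgroup.mem_subgroupOf.2 (hle ⟨s, hs, rfl⟩))
    rw [← h1, Subgroup.map_subgroupOf_eq_of_le hTX]⟩
  left_inv S := Subtype.ext (Subgroup.map_subgroupOf_eq_of_le S.2.1)
  right_inv P := by
    apply Sylow.ext
    exact Subgroup.comap_map_eq_self_of_injective X.subtype_injective _

theorem card_normalizer {p : ℕ} [Fact p.Prime] {X S : Subgroup G} (h : IsMaxP p X S) :
    Nat.card (Sylow p X) * Nat.card (normalizer (S : Set G) ⊓ X : Subgroup G) = Nat.card X := by
  set P : Sylow p X := maxPEquiv p X ⟨S, h⟩ with hP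
  have h1 : (P : Subgroup X) = S.subgroupOf X := rfl
  have h2 : (normalizer (S : Set G) ⊓ X : Subgroup G) = (normalizer ((P : Subgroup X) : Set X)).map X.subtype := by
    rw [h1]
    ext x
    constructor
    · rintro ⟨hx, hxX⟩
      refine ⟨⟨x, hxX⟩, ?_, rfl⟩
      apply Subgroup.mem_normalizer_fintype
      intro s hs
      exact Subgroup.mem_subgroupOf.2 ((Subgroup.mem_normalizer_iff.1 hx _).1 (Subgroup.mem_subgroupOf.1 hs))
    · rintro ⟨y, hy, rfl⟩
      refine ⟨?_, y.2⟩
      apply Subgroup.mem_normalizer_fintype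
      intro s hs
      exact Subgroup.mem_subgroupOf.1 ((Subgroup.mem_normalizer_iff.1 hy ⟨s, h.1 hs⟩).1 (Subgroup.mem_subgroupOf.2 hs))
  rw [h2, Subgroup.card_map_of_injective X.subtype_injective, Sylow.card_eq_index_normalizer P, mul_comm]
  exact Subgroup.card_mul_index _

open Classical in
theorem card_eq_sum (p : ℕ) [Fact p.Prime] [Fintype (Subgroup G)] (X : Subgroup G) :
    Nat.card X = ∑ S ∈ (Finset.univ.filter (fun S : Subgroup G => IsMaxP p X S)),
      Nat.card (normalizer (S : Set G) ⊓ X : Subgroup G) := by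
  have hpos : 0 < Nat.card (Sylow p X) := Nat.card_pos
  have h1 : ∀ S ∈ Finset.univ.filter (fun S : Subgroup G => IsMaxP p X S),
      Nat.card (normalizer (S : Set G) ⊓ X : Subgroup G) = Nat.card X / Nat.card (Sylow p X) := by
    intro S hS
    have := card_normalizer (Finset.mem_filter.1 hS).2
    rw [← this, Nat.mul_div_cancel_left _ hpos]
  rw [Finset.sum_congr rfl h1, Finset.sum_const, smul_eq_mul]
  have h2 : (Finset.univ.filter (fun S : Subgroup G => IsMaxP p X S)).card = Nat.card (Sylow p X) := by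
    rw [← Nat.card_congr (maxPEquiv p X), Nat.card_eq_fintype_card, Fintype.card_subtype]
  rw [h2]
  obtain ⟨P⟩ : Nonempty (Sylow p X) := inferInstance
  have h3 := card_normalizer ((maxPEquiv p X).symm P).2
  rw [← h3, Nat.mul_div_cancel_left _ hpos]

/-- the smallest `g`-invariant `p`-subgroup containing `H` -/
theorem exists_least {p : ℕ} {H : Subgroup G} {g : G}
    (h : ∃ R : Subgroup G, IsPGroup p R ∧ H ≤ R ∧ g ∈ normalizer (R : Set G)) :
    ∃ K : Subgroup G, (IsPGroup p K ∧ H ≤ K ∧ g ∈ normalizer (K : Set G)) ∧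
      ∀ R : Subgroup G, IsPGroup p R ∧ H ≤ R ∧ g ∈ normalizer (R : Set G) → K ≤ R := by
  refine ⟨sInf {R : Subgroup G | IsPGroup p R ∧ H ≤ R ∧ g ∈ normalizer (R : Set G)}, ⟨?_, ?_, ?_⟩, fun R hR => sInf_le hR⟩
  · obtain ⟨R, hR⟩ := h
    exact hR.1.to_le (sInf_le hR)
  · exact le_sInf fun R hR => hR.2.1
  · apply Subgroup.mem_normalizer_fintype
    intro s hs
    rw [SetLike.mem_coe, Subgroup.mem_sInf] at hs ⊢
    intro R hR
    exact (Subgroup.mem_normalizer_iff.1 hR.2.2 s).1 (hs R hR)

/-- the closure of `K` in `R` -/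
noncomputable def clo (g : G) (K R : Subgroup G) : Subgroup G :=
  sInf {S : Subgroup G | K ≤ S ∧ R ≤ normalizer (S : Set G) ∧ g ∈ normalizer (S : Set G)}

omit [Finite G] in
theorem clo_le {g : G} {K R S : Subgroup G} (h1 : K ≤ S) (h2 : R ≤ normalizer (S : Set G))
    (h3 : g ∈ normalizer (S : Set G)) : clo g K R ≤ S := sInf_le ⟨h1, h2, h3⟩

omit [Finite G] in
theorem le_clo (g : G) (K R : Subgroup G) : K ≤ clo g K R := le_sInf fun _ h => h.1

theorem le_normalizer_clo (g : G) (K R : Subgroup G) : R ≤ normalizer (clo g K R : Set G) := by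
  intro x hx
  apply Subgroup.mem_normalizer_fintype
  intro s hs
  rw [SetLike.mem_coe] at hs ⊢
  unfold clo at hs ⊢
  rw [Subgroup.mem_sInf] at hs ⊢
  intro S hS
  exact (Subgroup.mem_normalizer_iff.1 (hS.2.1 hx) s).1 (hs S hS)

theorem mem_normalizer_clo (g : G) (K R : Subgroup G) : g ∈ normalizer (clo g K R : Set G) := by
  apply Subgroup.mem_normalizer_fintype
  intro s hs
  rw [SetLike.mem_coe] at hs ⊢
  unfold clo at hs ⊢
  rw [Subgroup.mem_sInf] at hs ⊢
  intro S hS
  exact (Subgroup.mem_normalizer_iff.1 hS.2.2 s).1 (hs S hS)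

theorem clo_ne {p : ℕ} [Fact p.Prime] {g : G} {K R : Subgroup G} (hR : IsPGroup p R) (hKR : K < R)
    (hgK : g ∈ normalizer (K : Set G)) (hgR : g ∈ normalizer (R : Set G)) : clo g K R ≠ R := by
  obtain ⟨S, ⟨hKS, hSR, hgS⟩, hmax⟩ := (Set.toFinite {S : Subgroup G | K ≤ S ∧ S < R ∧ g ∈ normalizer (S : Set G)}).exists_maximal
    ⟨K, le_rfl, hKR, hgK⟩
  have h1 := lt_normalizer_inf hR hSR
  have h2 : g ∈ normalizer ((normalizer (S : Set G) ⊓ R : Subgroup G) : Set G) := by
    apply Subgroup.mem_normalizer_fintype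
    rintro s ⟨hs1, hs2⟩
    refine ⟨?_, (Subgroup.mem_normalizer_iff.1 hgR s).1 hs2⟩
    exact (normalizer (S : Set G)).mul_mem ((normalizer (S : Set G)).mul_mem hgS hs1) ((normalizer (S : Set G)).inv_mem hgS)
  have h3 : (normalizer (S : Set G) ⊓ R : Subgroup G) = R := by
    by_contra hne
    have hlt : (normalizer (S : Set G) ⊓ R : Subgroup G) < R := lt_of_le_of_ne inf_le_right hne
    exact absurd (hmax ⟨hKS.trans h1.le, hlt, h2⟩ h1.le) (not_le_of_gt h1)
  intro h
  have h4 : clo g K R ≤ S := clo_le hKS (by rw [← h3]; exact inf_le_left) hgS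
  rw [h] at h4
  exact absurd h4 (not_le_of_gt hSR)

open Classical in
theorem sum_fixed (p : ℕ) [Fact p.Prime] [Fintype (Subgroup G)] (H : Subgroup G) (g : G)
    (h : ∃ R : Subgroup G, IsPGroup p R ∧ H ≤ R ∧ g ∈ normalizer (R : Set G)) :
    ∑ σ ∈ Finset.univ.filter (fun σ : Finset (Subgroup G) => IsCh p H σ ∧ g ∈ stab σ), (-1 : ℤ) ^ σ.card = -1 := by
  obtain ⟨K, ⟨hKp, hHK, hgK⟩, hmin⟩ := exists_least h
  set X := Finset.univ.filter (fun σ : Finset (Subgroup G) => IsCh p H σ ∧ g ∈ stab σ) with hX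
  have hKX : ({K} : Finset (Subgroup G)) ∈ X := by
    rw [hX, Finset.mem_filter]
    refine ⟨Finset.mem_univ _, ⟨Finset.singleton_nonempty _, ?_, ?_⟩, ?_⟩
    · intro R hR; rw [Finset.mem_singleton] at hR; subst hR; exact ⟨hKp, hHK⟩
    · intro R hR S hS; rw [Finset.mem_singleton] at hR hS; subst hR; subst hS; exact Adj.refl _
    · rw [mem_stab]; intro R hR; rw [Finset.mem_singleton] at hR; subst hR; exact hgK
  rw [← Finset.add_sum_erase X _ hKX]
  simp only [Finset.card_singleton, pow_one]
  rw [sum_tog (X.erase {K}) (fun σ => clo g K (top σ)) (fun σ => (-1 : ℤ) ^ σ.card), add_zero]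
  -- common facts
  all_goals
    intro σ hσ
    have hσ1 := (Finset.mem_erase.1 hσ).1
    have hσ2 := (Finset.mem_filter.1 (Finset.mem_erase.1 hσ).2).2
    obtain ⟨hch, hg⟩ := hσ2
    have htop := hch.top_mem
    have hgt : g ∈ normalizer (top σ : Set G) := mem_stab.1 hg _ htop
    have hKle : ∀ R ∈ σ, K ≤ R := fun R hR => hmin R ⟨(hch.2.1 R hR).1, (hch.2.1 R hR).2, mem_stab.1 hg R hR⟩
    have hne : K ≠ top σ := by
      intro h
      apply hσ1
      ext R
      rw [Finset.mem_singleton]
      constructor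
      · intro hR; exact le_antisymm (h ▸ le_top_of_mem hR) (hKle R hR)
      · rintro rfl; rw [h]; exact htop
    have hlt : K < top σ := lt_of_le_of_ne (hKle _ htop) hne
    have hcne : clo g K (top σ) ≠ top σ := clo_ne (hch.2.1 _ htop).1 hlt hgK hgt
    have hcle : clo g K (top σ) ≤ top σ := clo_le hlt.le Subgroup.le_normalizer hgt
    have hcle' : ∀ R ∈ σ, clo g K (top σ) ≤ R := fun R hR =>
      clo_le (hKle R hR) (le_stab.1 hch.top_le R hR) (mem_stab.1 hg R hR)
    have htt : top (tog (clo g K (top σ)) σ) = top σ := by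
      unfold tog
      split_ifs with h1
      · apply le_antisymm
        · exact Finset.sup_mono (Finset.erase_subset _ _)
        · exact le_top_of_mem (Finset.mem_erase.2 ⟨hcne.symm, htop⟩)
      · rw [top_insert]; exact sup_eq_right.2 hcle
  · -- membership
    rw [Finset.mem_erase, hX, Finset.mem_filter]
    refine ⟨?_, Finset.mem_univ _, ⟨?_, ?_, ?_⟩, ?_⟩
    · intro h1
      have : top (tog (clo g K (top σ)) σ) = K := by rw [h1]; simp [top]
      rw [htt] at this
      exact hne this.symm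
    · refine ⟨top σ, ?_⟩
      unfold tog
      split_ifs with h1
      · exact Finset.mem_erase.2 ⟨hcne.symm, htop⟩
      · exact Finset.mem_insert_of_mem htop
    · intro R hR
      unfold tog at hR
      split_ifs at hR with h1
      · exact hch.2.1 R (Finset.mem_of_mem_erase hR)
      · rcases Finset.mem_insert.1 hR with rfl | hR
        · exact ⟨(hch.2.1 _ htop).1.to_le hcle, hHK.trans (le_clo _ _ _)⟩
        · exact hch.2.1 R hR
    · intro R hR S hS
      unfold tog at hR hS
      split_ifs at hR hS with h1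
      · exact hch.2.2 R (Finset.mem_of_mem_erase hR) S (Finset.mem_of_mem_erase hS)
      · have key : ∀ R ∈ σ, Adj (clo g K (top σ)) R := fun R hR =>
          Or.inl ⟨hcle' R hR, (le_top_of_mem hR).trans (le_normalizer_clo _ _ _)⟩
        rcases Finset.mem_insert.1 hR with rfl | hR <;> rcases Finset.mem_insert.1 hS with rfl | hS
        · exact Adj.refl _
        · exact key S hS
        · exact (key R hR).symm
        · exact hch.2.2 R hR S hS
    · rw [mem_stab]
      intro R hR
      unfold tog at hR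
      split_ifs at hR with h1
      · exact mem_stab.1 hg R (Finset.mem_of_mem_erase hR)
      · rcases Finset.mem_insert.1 hR with rfl | hR
        · exact mem_normalizer_clo _ _ _
        · exact mem_stab.1 hg R hR
  · rw [htt]
  · exact sign_tog _ _

open Classical in
theorem sum_sylow (p : ℕ) [Fact p.Prime] [Fintype (Subgroup G)] (H : Subgroup G) (S : Subgroup G) :
    ∑ σ ∈ Finset.univ.filter (fun σ : Finset (Subgroup G) => IsCh p H σ ∧ IsMaxP p (stab σ) S),
      (-1 : ℤ) ^ σ.card * (Nat.card (normalizer (S : Set G) ⊓ stab σ : Subgroup G) : ℤ) =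
      if (H ≤ S ∧ IsMaxP p ⊤ S) then - (Nat.card (normalizer (S : Set G)) : ℤ) else 0 := by
  set X := Finset.univ.filter (fun σ : Finset (Subgroup G) => IsCh p H σ ∧ IsMaxP p (stab σ) S) with hX
  have hst : stab ({S} : Finset (Subgroup G)) = normalizer (S : Set G) := by simp [stab]
  have hSX : ({S} : Finset (Subgroup G)) ∈ X ↔ (H ≤ S ∧ IsMaxP p ⊤ S) := by
    rw [hX, Finset.mem_filter, hst]
    constructor
    · rintro ⟨-, hch, hmax⟩
      refine ⟨(hch.2.1 S (Finset.mem_singleton_self S)).2, ?_⟩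
      apply IsMaxP.of_inf
      rw [inf_top_eq]; exact hmax
    · rintro ⟨hHS, hmax⟩
      refine ⟨Finset.mem_univ _, ⟨Finset.singleton_nonempty _, ?_, ?_⟩, ?_⟩
      · intro R hR; rw [Finset.mem_singleton] at hR; subst hR; exact ⟨hmax.2.1, hHS⟩
      · intro R hR T hT; rw [Finset.mem_singleton] at hR hT; subst hR; subst hT; exact Adj.refl _
      · have := hmax.to_inf
        rwa [inf_top_eq] at this
  have hzero : ∑ σ ∈ X.erase {S}, (-1 : ℤ) ^ σ.card * (Nat.card (normalizer (S : Set G) ⊓ stab σ : Subgroup G) : ℤ) = 0 := by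
    apply sum_tog (X.erase {S}) (fun _ => S)
      (fun σ => (-1 : ℤ) ^ σ.card * (Nat.card (normalizer (S : Set G) ⊓ stab σ : Subgroup G) : ℤ))
    · intro σ hσ
      have hσ1 := (Finset.mem_erase.1 hσ).1
      obtain ⟨hch, hmax⟩ := (Finset.mem_filter.1 (Finset.mem_erase.1 hσ).2).2
      have htop := hch.top_mem
      have htS : top σ ≤ S := hmax.le_of_normal (hch.2.1 _ htop).1 hch.top_le (le_stab.1 le_rfl _ htop)
      have hRS : ∀ R ∈ σ, R ≤ S := fun R hR => (le_top_of_mem hR).trans htS
      have hSR : ∀ R ∈ σ, S ≤ normalizer (R : Set G) := fun R hR => le_stab.1 hmax.1 R hR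
      rw [Finset.mem_erase, hX, Finset.mem_filter]
      unfold tog
      split_ifs with h1
      · have hne : (σ.erase S).Nonempty := by
          rw [Finset.nonempty_iff_ne_empty]
          intro h
          rw [Finset.erase_eq_empty_iff] at h
          rcases h with h | h
          · exact absurd h hch.1.ne_empty
          · exact hσ1 h
        refine ⟨?_, Finset.mem_univ _, ⟨hne, ?_, ?_⟩, ?_⟩
        · intro h
          have : S ∈ σ.erase S := by rw [h]; exact Finset.mem_singleton_self S
          simp at this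
        · intro R hR; exact hch.2.1 R (Finset.mem_of_mem_erase hR)
        · intro R hR T hT; exact hch.2.2 R (Finset.mem_of_mem_erase hR) T (Finset.mem_of_mem_erase hT)
        · apply IsMaxP.of_inf
          rw [← stab_insert, Finset.insert_erase h1]
          exact hmax
      · refine ⟨?_, Finset.mem_univ _, ⟨Finset.insert_nonempty _ _, ?_, ?_⟩, ?_⟩
        · intro h
          obtain ⟨R, hR⟩ := hch.1
          have : R ∈ insert S σ := Finset.mem_insert_of_mem hR
          rw [h, Finset.mem_singleton] at this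
          subst this
          exact h1 hR
        · intro R hR
          rcases Finset.mem_insert.1 hR with rfl | hR
          · exact ⟨hmax.2.1, (hch.2.1 _ htop).2.trans htS⟩
          · exact hch.2.1 R hR
        · intro R hR T hT
          rcases Finset.mem_insert.1 hR with hR' | hR' <;> rcases Finset.mem_insert.1 hT with hT' | hT'
          · rw [hR', hT']; exact Adj.refl _
          · rw [hR']; exact Or.inr ⟨hRS T hT', hSR T hT'⟩
          · rw [hT']; exact Or.inl ⟨hRS R hR', hSR R hR'⟩
          · exact hch.2.2 R hR' T hT'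
        · rw [stab_insert]; exact hmax.to_inf
    · intro σ hσ; rfl
    · intro σ hσ
      rw [sign_tog]
      have : (normalizer (S : Set G) ⊓ stab (tog S σ) : Subgroup G) = normalizer (S : Set G) ⊓ stab σ := by
        unfold tog
        split_ifs with h1
        · rw [← stab_insert, Finset.insert_erase h1]
          apply le_antisymm
          · exact le_inf (le_stab.1 le_rfl S h1) le_rfl
          · exact inf_le_right
        · rw [stab_insert, ← inf_assoc, inf_idem]
      rw [this]; ring
  split_ifs with h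
  · rw [← Finset.add_sum_erase X _ (hSX.2 h), hzero, add_zero, hst]
    simp
  · rw [← hSX] at h
    rw [Finset.erase_eq_of_notMem h] at hzero
    exact hzero

/-- the number of elements normalizing some `p`-subgroup containing `H` -/
theorem card_subnormalizer (p : ℕ) [Fact p.Prime] (H : Subgroup G) (P : Sylow p G) :
    Nat.card {g : G // ∃ R : Subgroup G, IsPGroup p R ∧ H ≤ R ∧ g ∈ normalizer (R : Set G)} =
      Nat.card {Q : Sylow p G // H ≤ (Q : Subgroup G)} * Nat.card (normalizer ((P : Subgroup G) : Set G)) := by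
  classical
  haveI : Fintype G := Fintype.ofFinite G
  haveI : Fintype (Subgroup G) := Fintype.ofFinite _
  haveI : Fintype (Sylow p G) := Fintype.ofFinite _
  set X := Finset.univ.filter (fun σ : Finset (Subgroup G) => IsCh p H σ) with hX
  set A : ℤ := ∑ σ ∈ X, (-1 : ℤ) ^ σ.card * (Nat.card (stab σ) : ℤ) with hA
  -- first evaluation
  have h1 : A = - (Nat.card {g : G // ∃ R : Subgroup G, IsPGroup p R ∧ H ≤ R ∧ g ∈ normalizer (R : Set G)} : ℤ) := by
    have e1 : A = ∑ σ ∈ X, ∑ g : G, if g ∈ stab σ then (-1 : ℤ) ^ σ.card else 0 := by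
      rw [hA]
      apply Finset.sum_congr rfl
      intro σ _
      rw [← Finset.sum_filter, Finset.sum_const, nsmul_eq_mul, mul_comm, Nat.card_eq_fintype_card, Fintype.card_subtype]
    rw [e1, Finset.sum_comm]
    have e2 : ∀ g : G, (∑ σ ∈ X, if g ∈ stab σ then (-1 : ℤ) ^ σ.card else 0) =
        if (∃ R : Subgroup G, IsPGroup p R ∧ H ≤ R ∧ g ∈ normalizer (R : Set G)) then (-1 : ℤ) else 0 := by
      intro g
      rw [← Finset.sum_filter, hX, Finset.filter_filter]
      split_ifs with h
      · exact sum_fixed p H g h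
      · apply Finset.sum_eq_zero
        intro σ hσ
        obtain ⟨hch, hg⟩ := (Finset.mem_filter.1 hσ).2
        obtain ⟨R, hR⟩ := hch.1
        exact absurd ⟨R, (hch.2.1 R hR).1, (hch.2.1 R hR).2, mem_stab.1 hg R hR⟩ h
    rw [Finset.sum_congr rfl (fun g _ => e2 g), ← Finset.sum_filter, Finset.sum_const, nsmul_eq_mul,
      Nat.card_eq_fintype_card, Fintype.card_subtype]
    ring
  -- second evaluation
  have h2 : A = ∑ S : Subgroup G, if (H ≤ S ∧ IsMaxP p ⊤ S) then - (Nat.card (normalizer (S : Set G)) : ℤ) else 0 := by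
    have e1 : A = ∑ σ ∈ X, ∑ S : Subgroup G, if IsMaxP p (stab σ) S then
        (-1 : ℤ) ^ σ.card * (Nat.card (normalizer (S : Set G) ⊓ stab σ : Subgroup G) : ℤ) else 0 := by
      rw [hA]
      apply Finset.sum_congr rfl
      intro σ _
      rw [← Finset.sum_filter, card_eq_sum p (stab σ), Nat.cast_sum, Finset.mul_sum]
    rw [e1, Finset.sum_comm]
    apply Finset.sum_congr rfl
    intro S _
    rw [← Finset.sum_filter, hX, Finset.filter_filter]
    exact sum_sylow p H S
  have h3 : (∑ S : Subgroup G, if (H ≤ S ∧ IsMaxP p ⊤ S) then - (Nat.card (normalizer (S : Set G)) : ℤ) else 0) =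
      - ((Nat.card {Q : Sylow p G // H ≤ (Q : Subgroup G)} * Nat.card (normalizer ((P : Subgroup G) : Set G)) : ℕ) : ℤ) := by
    have hcard : ∀ S : Subgroup G, IsMaxP p ⊤ S →
        Nat.card (normalizer (S : Set G)) = Nat.card (normalizer ((P : Subgroup G) : Set G)) := by
      have e1 : ∀ S : Subgroup G, IsMaxP p ⊤ S → Nat.card (Sylow p (⊤ : Subgroup G)) * Nat.card (normalizer (S : Set G)) =
          Nat.card (⊤ : Subgroup G) := by
        intro S hS
        have := card_normalizer hS
        rwa [inf_top_eq] at this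
      have hP : IsMaxP p ⊤ (P : Subgroup G) := ⟨le_top, P.isPGroup', fun T hT _ hPT => P.is_maximal' hT hPT⟩
      intro S hS
      have h4 := (e1 S hS).trans (e1 P hP).symm
      exact Nat.eq_of_mul_eq_mul_left Nat.card_pos h4
    rw [← Finset.sum_filter]
    rw [Finset.sum_congr rfl (g := fun _ => - (Nat.card (normalizer ((P : Subgroup G) : Set G)) : ℤ))]
    · rw [Finset.sum_const, nsmul_eq_mul]
      have : (Finset.univ.filter (fun S : Subgroup G => H ≤ S ∧ IsMaxP p ⊤ S)).card =
          Nat.card {Q : Sylow p G // H ≤ (Q : Subgroup G)} := by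
        rw [← Fintype.card_subtype, ← Nat.card_eq_fintype_card]
        apply Nat.card_congr
        exact
          { toFun := fun S => ⟨⟨S.1, S.2.2.2.1, fun {Q} hQ hle => S.2.2.2.2 Q hQ le_top hle⟩, S.2.1⟩
            invFun := fun Q => ⟨Q.1, Q.2, le_top, Q.1.isPGroup', fun T hT _ hPT => Q.1.is_maximal' hT hPT⟩
            left_inv := fun S => rfl
            right_inv := fun Q => rfl }
      rw [this]; push_cast; ring
    · intro S hS
      rw [hcard S (Finset.mem_filter.1 hS).2.2]
  rw [h1] at h2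
  rw [h3] at h2
  exact_mod_cast neg_inj.1 h2

end H71.PChains
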