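import Mathlib

set_option autoImplicit false

/-! Elements of a finite cyclic subgroup: membership in `zpowers` is divisibility of orders; counting generators. -/

namespace H71.CycBasic

variable {K : Type*} [Group K] [Finite K]

theorem mem_zpowers_iff {m x z : K} (hx : x ∈ Subgroup.zpowers m) (hz : z ∈ Subgroup.zpowers m) :
    x ∈ Subgroup.zpowers z ↔ orderOf x ∣ orderOf z := by
  classical
  constructor
  · intro h
    rw [← Nat.card_zpowers z]
    exact Subgroup.orderOf_dvd_natCard _ h
  · intro h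
    haveI := Fintype.ofFinite (Subgroup.zpowers m)
    set C := Subgroup.zpowers m
    -- all solutions of y^|z| = 1 in C are in zpowers z
    let x' : C := ⟨x, hx⟩
    let z' : C := ⟨z, hz⟩
    have hz' : orderOf z' = orderOf z := Subgroup.orderOf_mk _ _
    have hx' : orderOf x' = orderOf x := Subgroup.orderOf_mk _ _
    have h1 : (Finset.univ.filter (fun a : C => a ^ orderOf z = 1)).card ≤ orderOf z :=
      IsCyclic.card_pow_eq_one_le (orderOf_pos z)
    have h2 : (Finset.univ.filter (fun a : C => a ∈ Subgroup.zpowers z')).card = orderOf z := by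
      rw [← hz', ← Nat.card_zpowers z', Nat.card_eq_fintype_card, Fintype.card_subtype]
    have h3 : (Finset.univ.filter (fun a : C => a ∈ Subgroup.zpowers z')) ⊆
        (Finset.univ.filter (fun a : C => a ^ orderOf z = 1)) := by
      intro a ha
      rw [Finset.mem_filter] at ha ⊢
      refine ⟨ha.1, ?_⟩
      rw [← orderOf_dvd_iff_pow_eq_one, ← hz', ← Nat.card_zpowers z']
      exact Subgroup.orderOf_dvd_natCard _ ha.2
    have h4 := Finset.eq_of_subset_of_card_le h3 (by rw [h2]; exact h1)
    have h5 : x' ∈ Finset.univ.filter (fun a : C => a ^ orderOf z = 1) := by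
      rw [Finset.mem_filter]
      refine ⟨Finset.mem_univ _, ?_⟩
      rw [← orderOf_dvd_iff_pow_eq_one, hx']; exact h
    rw [← h4, Finset.mem_filter] at h5
    obtain ⟨k, hk⟩ := h5.2
    exact ⟨k, congrArg Subtype.val hk⟩

theorem exists_orderOf {m : K} {d : ℕ} (hd : d ∣ orderOf m) : ∃ z ∈ Subgroup.zpowers m, orderOf z = d := by
  obtain ⟨c, hc⟩ := hd
  have hc0 : c ≠ 0 := by
    rintro rfl
    rw [mul_zero] at hc
    exact (orderOf_pos m).ne' hc
  refine ⟨m ^ c, Subgroup.pow_mem _ (Subgroup.mem_zpowers m) c, ?_⟩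
  rw [orderOf_pow_of_dvd hc0 ⟨d, by rw [hc, mul_comm]⟩, hc]
  exact Nat.mul_div_cancel _ (Nat.pos_of_ne_zero hc0)

theorem zpowers_eq_iff {m x z : K} (hx : x ∈ Subgroup.zpowers m) (hz : z ∈ Subgroup.zpowers m) :
    Subgroup.zpowers x = Subgroup.zpowers z ↔ orderOf x = orderOf z := by
  constructor
  · intro h
    rw [← Nat.card_zpowers, h, Nat.card_zpowers]
  · intro h
    apply le_antisymm
    · rw [Subgroup.zpowers_le, mem_zpowers_iff hx hz, h]
    · rw [Subgroup.zpowers_le, mem_zpowers_iff hz hx, h]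

/-- the number of elements of order `d` in a cyclic subgroup -/
theorem card_orderOf {m : K} {d : ℕ} (hd : d ∣ orderOf m) :
    Nat.card {x : K // x ∈ Subgroup.zpowers m ∧ orderOf x = d} = d.totient := by
  classical
  haveI := Fintype.ofFinite (Subgroup.zpowers m)
  have h1 := IsCyclic.card_orderOf_eq_totient (α := Subgroup.zpowers m) (d := d)
    (by rw [← Nat.card_eq_fintype_card, Nat.card_zpowers]; exact hd)
  rw [← h1, ← Fintype.card_subtype, ← Nat.card_eq_fintype_card]
  apply Nat.card_congr
  exact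
    { toFun := fun x => ⟨⟨x.1, x.2.1⟩, by rw [Subgroup.orderOf_mk]; exact x.2.2⟩
      invFun := fun x => ⟨x.1.1, x.1.2, by rw [Subgroup.orderOf_coe]; exact x.2⟩
      left_inv := fun x => rfl
      right_inv := fun x => rfl }

/-- the number of generators of `zpowers k` -/
theorem card_gens (k : K) : Nat.card {x : K // Subgroup.zpowers x = Subgroup.zpowers k} = (orderOf k).totient := by
  rw [← card_orderOf (m := k) dvd_rfl]
  apply Nat.card_congr
  apply Equiv.subtypeEquivRight
  intro x
  constructor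
  · intro h
    refine ⟨?_, ?_⟩
    · rw [← h]; exact Subgroup.mem_zpowers x
    · rw [← Nat.card_zpowers, h, Nat.card_zpowers]
  · rintro ⟨h1, h2⟩
    exact (zpowers_eq_iff h1 (Subgroup.mem_zpowers k)).2 h2

/-- every element lies in a maximal cyclic subgroup -/
theorem exists_maximal (g : K) : ∃ m : K, g ∈ Subgroup.zpowers m ∧ ∀ z, m ∈ Subgroup.zpowers z → z ∈ Subgroup.zpowers m := by
  obtain ⟨m, hm⟩ := (Set.toFinite {m : K | g ∈ Subgroup.zpowers m}).exists_maximalFor (fun m => orderOf m) _ ⟨g, Subgroup.mem_zpowers g⟩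
  refine ⟨m, hm.1, fun z hz => ?_⟩
  have h1 : orderOf m ∣ orderOf z := by
    rw [← Nat.card_zpowers z]
    exact Subgroup.orderOf_dvd_natCard _ hz
  have h2 : g ∈ Subgroup.zpowers z := (Subgroup.zpowers_le.2 hz) hm.1
  have h3 : orderOf z ≤ orderOf m := hm.2 h2 (Nat.le_of_dvd (orderOf_pos z) h1)
  have h4 : orderOf m = orderOf z := le_antisymm (Nat.le_of_dvd (orderOf_pos z) h1) h3
  rw [mem_zpowers_iff (Subgroup.mem_zpowers z) hz, h4]

end H71.CycBasic
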