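import Cfsg.Agent.Lib.H71.G8l
import Cfsg.Agent.Lib.H62.PGYE

set_option autoImplicit false
set_option linter.unusedSectionVars false
set_option linter.unusedVariables false

/-!
T-GW8, readme 76: type `PGL₂(q)` is impossible.
-/

namespace H71.G8

universe u

variable {G : Type u} [Group G] [Finite G]

/-- **there is no proper subgroup `K ≥ C(z)` of `PGL₂(q)`-type** -/
theorem noPT {m : ℕ} (h : H28.GW8.Set8 G m) : H59.G8.NoPT G :=
  noPT_of h (H62.PGX.pgAll h.base h.partB h.d8.dh)

/-- the input `TY` of 76S -/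
theorem ty {m : ℕ} (h : H28.GW8.Set8 G m) : H24.G8S.TY G := H59.G8.ty_of h (noPT h)

end H71.G8
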