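import Cfsg.Agent.Lib.H26.PComponents
import Cfsg.Agent.Lib.H59.PCons
import Cfsg.Agent.Lib.H38.PPrime
import Cfsg.Agent.Lib.H11.FourConn
import Cfsg.Agent.Lib.H1.UniqueSub
import Cfsg.Agent.Lib.H87.AutTwo
import Cfsg.Agent.Lib.H15.Q8Lin2

/-!
Centralizers of involutions which are 2-constrained: the structure needed for the proof that a
group of noncomponent type with connected Sylow 2-subgroup is of characteristic 2 type.
-/

set_option autoImplicit false
set_option linter.unusedSectionVars false

open Subgroup Cfsg H38 H38.Basic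

namespace H71.NC

theorem isPConstrained_of_layer {X : Type*} [Group X] [Finite X] {p : ℕ} [Fact p.Prime]
    (h : layer (X ⧸ pPrimeCore p X) = ⊥) : IsPConstrained p X := by
  have hO := H1.Cores.pPrimeCore_quotient_pPrimeCore (G := X) p
  rw [H59.PCons.isPConstrained_iff]
  have h2 : H59.CharP.CT p (X ⧸ pPrimeCore p X) ↔ Subgroup.centralizer
      (pCore p (X ⧸ pPrimeCore p X) : Set (X ⧸ pPrimeCore p X)) ≤
        pCore p (X ⧸ pPrimeCore p X) :=
    ⟨fun h => h.centralizer_pCore_le, H59.CharP.charP_of_centralizer_pCore_le⟩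
  rw [h2, ← H26.GenFitting.gFitting_eq_pCore_iff]
  rw [H26.GenFitting.gFitting_eq_of_pPrimeCore_eq_bot hO, h, bot_sup_eq]

theorem isPConstrained_of_not_hasComponent {X : Type*} [Group X] [Finite X] {p : ℕ}
    [Fact p.Prime] (h : ¬ HasComponent (X ⧸ pPrimeCore p X)) : IsPConstrained p X := by
  apply isPConstrained_of_layer
  rw [layer, sSup_eq_bot]
  intro K hK
  exact absurd ⟨K, hK⟩ h

/-- a `2`-group with a unique involution has a 2-group as automorphism group, or is quaternion of
order 8 -/
theorem aut_or_quat {T : Type*} [Group T] [Finite T] (hT : IsPGroup 2 T)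
    (hu : ∀ u v : T, u * u = 1 → u ≠ 1 → v * v = 1 → v ≠ 1 → u = v) :
    IsPGroup 2 (MulAut T) ∨ Nonempty (T ≃* QuaternionGroup 2) := by
  have hf : Fact (Nat.Prime 2) := ⟨Nat.prime_two⟩
  have hcyc : IsCyclic T → IsPGroup 2 (MulAut T) := by
    intro hc
    obtain ⟨n, hn⟩ := IsPGroup.iff_card.mp hT
    rcases Nat.eq_zero_or_pos n with rfl | hn0
    · apply IsPGroup.of_card (n := 0)
      rw [IsCyclic.card_mulAut, hn]
      simp
    · apply IsPGroup.of_card (n := n - 1)
      rw [IsCyclic.card_mulAut, hn, Nat.totient_prime_pow Nat.prime_two hn0]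
      simp
  rcases H1.UniqueSub.cyclic_or_quaternion 2 hT (by
    intro H K hH hK
    have hgen : ∀ L : Subgroup T, Nat.card L = 2 → ∃ u : T, u * u = 1 ∧ u ≠ 1 ∧ L = zpowers u := by
      intro L hL
      obtain ⟨u, hu1⟩ := exists_prime_orderOf_dvd_card' (G := L) 2 (by rw [hL])
      rw [← Subgroup.orderOf_coe] at hu1
      refine ⟨u, ?_, ?_, ?_⟩
      · have := pow_orderOf_eq_one (u : T)
        rwa [hu1, pow_two] at this
      · intro h
        rw [h, orderOf_one] at hu1
        norm_num at hu1
      · symm
        apply Subgroup.eq_of_le_of_card_ge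
        · rw [zpowers_le]; exact u.2
        · rw [Nat.card_zpowers, hu1, hL]
    obtain ⟨u, h1, h2, h3⟩ := hgen H hH
    obtain ⟨v, h4, h5, h6⟩ := hgen K hK
    rw [h3, h6, hu u v h1 h2 h4 h5]) with hc | ⟨_, n, ⟨e⟩⟩
  · exact Or.inl (hcyc hc)
  · rcases Nat.lt_trichotomy n 1 with h | rfl | h
    · obtain rfl : n = 0 := by omega
      left
      apply hcyc
      have := QuaternionGroup.quaternionGroup_one_isCyclic
      exact (MulEquiv.isCyclic e).mpr (by simpa using this)
    · right
      exact ⟨by simpa using e⟩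
    · left
      have := H87.AutTwo.isPGroup_aut_quaternion n h
      exact this.of_equiv (MulAut.congr e).symm

theorem center_quat : ∀ q : QuaternionGroup 2, (∀ r, q * r = r * q) → q * q = 1 := by decide

/-- the local structure -/
theorem loc {X : Type*} [Group X] [Finite X] (hX : IsPConstrained 2 X) {t : X}
    (htc : ∀ x, x * t = t * x) (ht : orderOf t = 2) (P : Sylow 2 X)
    (hV : ¬ ∃ V ≤ (P : Subgroup X) ⊓ pPrimePCore 2 X, IsKleinFour V) :
    pPrimeCore 2 X ⊔ (P : Subgroup X) = ⊤ ∨
      ((∀ z ∈ P, (∀ x ∈ P, z * x = x * z) → z * z = 1 → z = 1 ∨ z = t) ∧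
        ∀ A ≤ (P : Subgroup X), (∀ a ∈ A, a * a = 1) → Nat.card A ≤ 4) := by
  have hf : Fact (Nat.Prime 2) := ⟨Nat.prime_two⟩
  set T : Subgroup X := (P : Subgroup X) ⊓ pPrimePCore 2 X with hT
  have hTs : IsSyl 2 T (pPrimePCore 2 X) := PPrime.inf_pPrimePCore_isSyl P
  have hTp : IsPGroup 2 T := P.2.to_le inf_le_left
  have hC : centralizer (T : Set X) ≤ pPrimePCore 2 X := (PPrime.isPConstrained_iff' hTs).mp hX
  have hKN : pPrimeCore 2 X ⊔ normalizer (T : Set X) = ⊤ := PPrime.sup_normalizer_eq_top hTs
  have htt : t * t = 1 := by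
    have := pow_orderOf_eq_one t
    rwa [ht, pow_two] at this
  have ht1 : t ≠ 1 := by
    rintro rfl
    rw [orderOf_one] at ht
    norm_num at ht
  have hzn : (zpowers t).Normal := by
    constructor
    intro n hn g
    obtain ⟨k, rfl⟩ := mem_zpowers_iff.mp hn
    have h1 : Commute g (t ^ k) := (show Commute g t from htc g).zpow_right k
    rw [h1.eq, mul_inv_cancel_right]
    exact zpow_mem (mem_zpowers t) k
  have hzp : IsPGroup 2 (zpowers t) := IsPGroup.of_card (n := 1) (by
    rw [Nat.card_zpowers, ht, pow_one])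
  have htP : t ∈ P := by
    have h1 : zpowers t ≤ (P : Subgroup X) := by
      have := hzp.le_sylow_of_normal
      exact this P
    exact h1 (mem_zpowers t)
  have htO : t ∈ pPrimePCore 2 X := by
    have h1 : zpowers t ≤ pPrimePCore 2 X := by
      apply PPrime.le_pPrimePCore hzn
      intro x hx
      obtain ⟨k, hk⟩ := hzp ⟨x, hx⟩
      refine ⟨k, ?_⟩
      have := congrArg Subtype.val hk
      rw [show x ^ 2 ^ k = 1 from this]
      exact one_mem _
    exact h1 (mem_zpowers t)
  have htT : t ∈ T := ⟨htP, htO⟩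
  have huT : ∀ u ∈ T, u * u = 1 → u = 1 ∨ u = t := by
    intro u hu huu
    by_contra hcon
    push Not at hcon
    obtain ⟨W, hW, htW, huW, hWm⟩ := H11.FourConn.isKleinFour_sup htt huu ht1 hcon.1
      (fun h => hcon.2 h.symm) (htc u).symm
    apply hV
    refine ⟨W, ?_, hW⟩
    intro x hx
    rcases hWm x hx with rfl | rfl | rfl | rfl
    · exact one_mem _
    · exact htT
    · exact hu
    · exact mul_mem htT hu
  rcases aut_or_quat hTp (by
    rintro ⟨u, hu⟩ ⟨v, hv⟩ h1 h2 h3 h4
    apply Subtype.ext
    have h5 := huT u hu (congrArg Subtype.val h1)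
    have h6 := huT v hv (congrArg Subtype.val h3)
    rcases h5 with h5 | h5
    · exact absurd (Subtype.ext h5) h2
    rcases h6 with h6 | h6
    · exact absurd (Subtype.ext h6) h4
    exact h5.trans h6.symm) with hA | ⟨⟨e⟩⟩
  · left
    have h1 : (⊤ : Subgroup X) ≤ pPrimePCore 2 X := by
      -- every element has a 2-power in `pPrimePCore`
      have h2 : ∀ x : X, ∃ k, x ^ 2 ^ k ∈ pPrimePCore 2 X := by
        intro x
        have hx : x ∈ pPrimeCore 2 X ⊔ normalizer (T : Set X) := by rw [hKN]; trivial
        have hKnorm : (pPrimeCore 2 X).Normal := by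
          have := H1.Cores.pPrimeCore_characteristic (G := X) 2
          exact Subgroup.normal_of_characteristic _
        rw [Subgroup.mem_sup_of_normal_left] at hx
        obtain ⟨k, hk, n, hn, rfl⟩ := hx
        obtain ⟨j, hj⟩ := hA (T.normalizerMonoidHom ⟨n, hn⟩)
        refine ⟨j, ?_⟩
        have h3 : (⟨n, hn⟩ : normalizer (T : Set X)) ^ 2 ^ j ∈ T.normalizerMonoidHom.ker := by
          rw [MonoidHom.mem_ker, map_pow, hj]
        rw [normalizerMonoidHom_ker, mem_subgroupOf] at h3
        have h4 : n ^ 2 ^ j ∈ pPrimePCore 2 X := hC (by simpa using h3)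
        have h5 : (QuotientGroup.mk (k * n) : X ⧸ pPrimePCore 2 X) = QuotientGroup.mk n := by
          rw [QuotientGroup.mk_mul, (QuotientGroup.eq_one_iff k).2
            (PPrime.pPrimeCore_le_pPrimePCore hk), one_mul]
        rw [← QuotientGroup.eq_one_iff, QuotientGroup.mk_pow, h5, ← QuotientGroup.mk_pow,
          QuotientGroup.eq_one_iff]
        exact h4
      apply PPrime.le_pPrimePCore inferInstance
      intro x _
      obtain ⟨k, hk⟩ := h2 x
      obtain ⟨l, hl⟩ := PPrime.exists_pow_mem_of_mem_pPrimePCore hk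
      refine ⟨k + l, ?_⟩
      rwa [pow_add, pow_mul]
    have h2 : T = (P : Subgroup X) := by
      rw [hT]; exact inf_eq_left.mpr (le_top.trans h1)
    have h3 := PPrime.pPrimePCore_eq_sup hTs
    rw [h2] at h3
    rw [← h3]
    exact top_le_iff.mp h1
  · right
    have hCT : ∀ z ∈ P, (∀ x ∈ T, z * x = x * z) → z ∈ T := by
      intro z hz hzT
      refine ⟨hz, hC ?_⟩
      rw [mem_centralizer_iff]
      intro x hx
      exact (hzT x hx).symm
    refine ⟨fun z hz hzc hzz => huT z (hCT z hz fun x hx => hzc x hx.1) hzz, ?_⟩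
    intro A hAP hA2
    -- work inside `P`
    have hTn : (T.subgroupOf (P : Subgroup X)).Normal := by
      rw [hT]
      constructor
      intro n hn g
      rw [mem_subgroupOf] at hn ⊢
      refine ⟨(g * n * g⁻¹ : (P : Subgroup X)).2, ?_⟩
      have := (PPrime.pPrimePCore_normal (G := X) 2).conj_mem _ hn.2 g
      simpa using this
    have hTP : T ≤ (P : Subgroup X) := inf_le_left
    have h1 := H15.Q8Lin.card_dvd_24 (T.subgroupOf (P : Subgroup X)) hTn
      ((subgroupOfEquivOfLe hTP).trans e)
    have hcc : Nat.card (centralizer ((T.subgroupOf (P : Subgroup X) : Subgroup P) : Set P)) ≤ 2 := by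
      have h2 : ∀ z ∈ centralizer ((T.subgroupOf (P : Subgroup X) : Subgroup P) : Set P),
          z = 1 ∨ z = ⟨t, htP⟩ := by
        intro z hz
        rw [mem_centralizer_iff] at hz
        have hzc : ∀ x ∈ T, (z : X) * x = x * z := by
          intro x hx
          have := hz ⟨x, hTP hx⟩ (by rw [SetLike.mem_coe, mem_subgroupOf]; exact hx)
          exact (congrArg Subtype.val this).symm
        have hzT := hCT z z.2 hzc
        have hzz : (z : X) * z = 1 := by
          have h3 := center_quat (e ⟨z, hzT⟩) (by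
            intro r
            obtain ⟨x, rfl⟩ := e.surjective r
            rw [← map_mul, ← map_mul]
            congr 1
            exact Subtype.ext (hzc x x.2))
          rw [← map_mul] at h3
          have h4 := e.injective (h3.trans (map_one e).symm)
          exact congrArg Subtype.val h4
        rcases huT z hzT hzz with h | h
        · left; exact Subtype.ext h
        · right; exact Subtype.ext h
      have h3 : (centralizer ((T.subgroupOf (P : Subgroup X) : Subgroup P) : Set P) : Set P) ⊆
          ({1, ⟨t, htP⟩} : Set P) := by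
        intro z hz
        rcases h2 z hz with h | h
        · simp [h]
        · simp [h]
      calc Nat.card (centralizer ((T.subgroupOf (P : Subgroup X) : Subgroup P) : Set P))
          = Set.ncard (centralizer ((T.subgroupOf (P : Subgroup X) : Subgroup P) : Set P) : Set P) := rfl
        _ ≤ Set.ncard ({1, ⟨t, htP⟩} : Set P) := Set.ncard_le_ncard h3 (Set.toFinite _)
        _ ≤ 2 := (Set.ncard_insert_le _ _).trans (by rw [Set.ncard_singleton])
    have hPc : Nat.card P ≤ 16 := by
      obtain ⟨n, hn⟩ := IsPGroup.iff_card.mp P.2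
      have hcpos : 0 < Nat.card (centralizer ((T.subgroupOf (P : Subgroup X) : Subgroup P) : Set P)) :=
        Nat.card_pos
      have h48 : Nat.card P ∣ 48 := by
        refine h1.trans ?_
        interval_cases h : Nat.card (centralizer ((T.subgroupOf (P : Subgroup X) : Subgroup P) : Set P))
        · norm_num
        · norm_num
      rw [hn] at h48 ⊢
      have h5 : 2 ^ n ∣ 2 ^ 4 := by
        have h6 : Nat.Coprime (2 ^ n) 3 := Nat.Coprime.pow_left n (by norm_num)
        exact h6.dvd_of_dvd_mul_right (by norm_num; exact h48)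
      exact Nat.le_of_dvd (by norm_num) h5
    have hTc : Nat.card T = 8 := by
      rw [Nat.card_congr e.toEquiv]
      simp [Nat.card_eq_fintype_card, QuaternionGroup.card]
    -- `|A| ≤ |A ∩ T| |P : T|`
    have h6 : T.relIndex A ≤ T.relIndex (P : Subgroup X) :=
      Subgroup.relIndex_le_of_le_right hAP (Subgroup.index_ne_zero_of_finite)
    have h7 : Nat.card T * T.relIndex (P : Subgroup X) = Nat.card P := by
      rw [← H1.SZ.card_subgroupOf_of_le hTP]
      exact Subgroup.card_mul_index _
    have h8 : Nat.card (T.subgroupOf A) * T.relIndex A = Nat.card A := Subgroup.card_mul_index _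
    have h9 : Nat.card (T.subgroupOf A) ≤ 2 := by
      rcases Classical.em (t ∈ A) with htA | htA
      · have h3 : (T.subgroupOf A : Set A) ⊆ ({1, ⟨t, htA⟩} : Set A) := by
          intro z hz
          rw [SetLike.mem_coe, mem_subgroupOf] at hz
          rcases huT z hz (hA2 z z.2) with h | h
          · left; exact Subtype.ext h
          · right; exact Subtype.ext h
        calc Nat.card (T.subgroupOf A) = Set.ncard (T.subgroupOf A : Set A) := rfl
          _ ≤ Set.ncard ({1, ⟨t, htA⟩} : Set A) := Set.ncard_le_ncard h3 (Set.toFinite _)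
          _ ≤ 2 := (Set.ncard_insert_le _ _).trans (by rw [Set.ncard_singleton])
      · have h3 : (T.subgroupOf A : Set A) ⊆ ({1} : Set A) := by
          intro z hz
          rw [SetLike.mem_coe, mem_subgroupOf] at hz
          rcases huT z hz (hA2 z z.2) with h | h
          · exact Subtype.ext h
          · exact absurd (h ▸ z.2) htA
        calc Nat.card (T.subgroupOf A) = Set.ncard (T.subgroupOf A : Set A) := rfl
          _ ≤ Set.ncard ({1} : Set A) := Set.ncard_le_ncard h3 (Set.toFinite _)
          _ ≤ 2 := by rw [Set.ncard_singleton]; norm_num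
    rw [hTc] at h7
    have h10 : T.relIndex (P : Subgroup X) ≤ 2 := by omega
    calc Nat.card A = Nat.card (T.subgroupOf A) * T.relIndex A := h8.symm
      _ ≤ 2 * 2 := Nat.mul_le_mul h9 (h6.trans h10)
      _ = 4 := by norm_num

end H71.NC
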