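import Cfsg.Agent.Lib.H71.NC1
import Cfsg.Agent.Lib.H27.LayerFree
import Cfsg.Agent.Lib.H11.FourCore
import Cfsg.Agent.Lib.H59.PCons2
import Cfsg.Agent.S0217
import Cfsg.Agent.S0205

/-!
Groups with 2-constrained centralizers of involutions and connected Sylow 2-subgroup.
-/

set_option autoImplicit false
set_option linter.unusedSectionVars false

open Subgroup Cfsg H38 H38.Basic H27.EquivSig H27 H26.LocalFitting H11.SubnormalJoin H11.FourConn
  H11.FourCore
open scoped Pointwise

namespace H71.NC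

variable {G : Type*} [Group G] [Finite G]

/-- the functor -/
abbrev th (G : Type*) [Group G] : G → Subgroup G := fun a => centralizerPPrimeCore 2 a

theorem th_odd (a : G) : (Nat.card (th G a)).Coprime 2 := card_ppc 2 _

theorem hyp (hpc : ∀ t : G, orderOf t = 2 → IsPConstrained 2 ↥(centralizer ({t} : Set G))) :
    Hyp 2 (th G) := by
  have hf : Fact (Nat.Prime 2) := ⟨Nat.prime_two⟩
  refine ⟨?_, fun a _ => ppc_le 2 _, fun a _ => ?_, fun a _ => ?_,
      fun a g _ => LayerFree.core_equiv a g, fun a b ha hb hab => LayerFree.core_bal ha.1 ?_ hab⟩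
  · intro A h1 h2 h3 θ h4 h5 h6 h7 h8
    exact Cfsg.Agent.S0217.result A h1 h2 h3 θ h4 h5 h6 h7 h8
  · exact fun h => (Nat.Prime.coprime_iff_not_dvd hf.out).mp (th_odd a).symm h
  · apply Cfsg.Agent.S0205.result
    exact Nat.coprime_two_right.mp (th_odd a)
  · exact (Cfsg.Agent.S1327.result 2).mp (hpc b hb.1)

theorem W_conj_le (g : G) (E : Subgroup G) :
    W (th G) (MulAut.conj g • E) ≤ MulAut.conj g • W (th G) E := by
  have hf : Fact (Nat.Prime 2) := ⟨Nat.prime_two⟩
  apply W_le
  intro a ha h1 x hx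
  rw [H1.SZ.mem_conj_smul] at ha
  have h2 : g⁻¹ * a * g ≠ 1 := by
    intro h
    apply h1
    calc a = g * (g⁻¹ * a * g) * g⁻¹ := by group
      _ = 1 := by rw [h]; group
  have h3 := LayerFree.core_equiv (p := 2) (g⁻¹ * a * g) g
  have h4 : g * (g⁻¹ * a * g) * g⁻¹ = a := by group
  rw [h4] at h3
  have h5 : x ∈ centralizerPPrimeCore 2 a := hx
  rw [h3] at h5
  obtain ⟨y, hy, rfl⟩ := h5
  refine ⟨y, le_W (θ := th G) ha h2 hy, rfl⟩

theorem W_conj (g : G) (E : Subgroup G) :
    W (th G) (MulAut.conj g • E) = MulAut.conj g • W (th G) E := by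
  apply le_antisymm (W_conj_le g E)
  have h1 := W_conj_le g⁻¹ (MulAut.conj g • E)
  rw [← mul_smul, ← map_mul, inv_mul_cancel, map_one, one_smul] at h1
  have h2 := Subgroup.pointwise_smul_le_pointwise_smul_iff (a := MulAut.conj g).mpr h1
  rwa [← mul_smul, ← map_mul, mul_inv_cancel, map_one, one_smul] at h2

theorem elAb_of_klein {V : Subgroup G} (hV : IsKleinFour V) : IsElementaryAbelian 2 V := by
  apply ElAb.of_comm
  · intro x hx y hy
    exact IsKleinFour.comm hV hx hy
  · intro x hx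
    rw [pow_two]
    exact ((isKleinFour_iff V).mp hV).2 x hx

theorem adj_step {A B : Subgroup G} (hr : Rel (S := G) A B) (hA : IsRankGraphVertex 2 2 A) :
    IsRankGraphVertex 2 2 B := by
  have hf : Fact (Nat.Prime 2) := ⟨Nat.prime_two⟩
  by_cases hAB : A = B
  · rwa [← hAB]
  · have hBk := elAb_of_klein hr.2.1
    have hAk := elAb_of_klein hr.1
    refine ⟨hBk, by rw [((isKleinFour_iff B).mp hr.2.1).1]; norm_num, ?_⟩
    have hcomm : ⁅A, B⁆ = ⊥ := by
      rw [commutator_eq_bot_iff_le_centralizer]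
      intro a ha
      rw [mem_centralizer_iff]
      exact fun b hb => (hr.2.2 a ha b hb).symm
    have hAB2 := ElAb.sup hAk hBk hcomm
    apply not_pRankLE_of_le hAB2
    · exact ElAb.le_centralizer_of_le hAB2 le_sup_right
    · intro hle
      apply hAB
      have h4A := ((isKleinFour_iff A).mp hr.1).1
      have h4B := ((isKleinFour_iff B).mp hr.2.1).1
      have h4 : A = A ⊔ B := Subgroup.eq_of_le_of_card_ge le_sup_left (by rw [h4A]; simpa using hle)
      have h5 : B = A ⊔ B := Subgroup.eq_of_le_of_card_ge le_sup_right (by rw [h4B]; simpa using hle)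
      exact h4.trans h5.symm

theorem chain (h : Hyp 2 (th G)) {A B : Subgroup G} (hA : IsRankGraphVertex 2 2 A)
    (hc : Relation.ReflTransGen (Rel (S := G)) A B) :
    IsRankGraphVertex 2 2 B ∧ W (th G) B = W (th G) A := by
  have hf : Fact (Nat.Prime 2) := ⟨Nat.prime_two⟩
  induction hc with
  | refl => exact ⟨hA, rfl⟩
  | tail _ h3 ih =>
    have h4 := adj_step h3 ih.1
    exact ⟨h4, (h.adj ih.1 h4 h3.2.2).symm.trans ih.2⟩

/-- growing a `p`-group inside `M` -/
theorem le_of_normalizer_inf {p : ℕ} [Fact p.Prime] {P M : Subgroup G} (hP : IsPGroup p P)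
    (h : ∀ g ∈ P, g ∈ normalizer ((P ⊓ M : Subgroup G) : Set G) → g ∈ M) : P ≤ M := by
  by_contra hcon
  have hn : Group.IsNilpotent P := hP.isNilpotent
  have h1 : (P ⊓ M).subgroupOf P < ⊤ := by
    rw [lt_top_iff_ne_top, Ne, Subgroup.subgroupOf_eq_top]
    intro h; exact hcon (h.trans inf_le_right)
  have h3 := Group.normalizerCondition_of_isNilpotent _ h1
  obtain ⟨x, hx, hxD⟩ := SetLike.exists_of_lt h3
  have hxN : (x : G) ∈ normalizer ((P ⊓ M : Subgroup G) : Set G) := by
    rw [Subgroup.mem_normalizer_iff] at hx ⊢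
    intro z
    constructor
    · intro hz
      have := (hx ⟨z, hz.1⟩).mp (by rw [mem_subgroupOf]; exact hz)
      exact mem_subgroupOf.mp this
    · intro hz
      have hzT : z ∈ P := by
        have h12 : (x : G) * z * (x : G)⁻¹ ∈ P := hz.1
        have : z = (x : G)⁻¹ * ((x : G) * z * (x : G)⁻¹) * x := by group
        rw [this]
        exact mul_mem (mul_mem (inv_mem x.2) h12) x.2
      have := (hx ⟨z, hzT⟩).mpr (by rw [mem_subgroupOf]; exact hz)
      exact mem_subgroupOf.mp this
  apply hxD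
  rw [mem_subgroupOf]
  exact ⟨x.2, h x x.2 hxN⟩

/-- the setting: `M` contains the normalizers of the 2-subgroups of 2-rank at least two of `S` -/
structure Core2 (S : Sylow 2 G) (M : Subgroup G) : Prop where
  klein : ∃ V ≤ (S : Subgroup G), IsKleinFour V
  norm : ∀ Q : Subgroup G, Q ≤ (S : Subgroup G) → (∃ V ≤ Q, IsKleinFour V) →
    normalizer (Q : Set G) ≤ M

theorem Core2.sylow_le {S : Sylow 2 G} {M : Subgroup G} (h : Core2 S M) : (S : Subgroup G) ≤ M :=
  Subgroup.le_normalizer.trans (h.norm S le_rfl h.klein)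

theorem Core2.norm' {S : Sylow 2 G} {M : Subgroup G} (h : Core2 S M) {Q : Subgroup G}
    (hQ : IsPGroup 2 Q) (hQM : Q ≤ M) (hV : ∃ V ≤ Q, IsKleinFour V) :
    normalizer (Q : Set G) ≤ M := by
  have hf : Fact (Nat.Prime 2) := ⟨Nat.prime_two⟩
  obtain ⟨m, hm, hQm⟩ := exists_conj_le_of_sylow_le S M h.sylow_le Q hQ hQM
  have h1 : MulAut.conj m⁻¹ • Q ≤ (S : Subgroup G) := by
    rw [map_inv, Subgroup.pointwise_smul_subset_iff, inv_inv]; exact hQm
  obtain ⟨V, hVQ, hV⟩ := hV
  have h2 := h.norm (MulAut.conj m⁻¹ • Q) h1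
    ⟨MulAut.conj m⁻¹ • V, Subgroup.pointwise_smul_le_pointwise_smul_iff.mpr hVQ,
      isKleinFour_conj hV _⟩
  intro g hg
  have h3 : m⁻¹ * g * m ∈ normalizer ((MulAut.conj m⁻¹ • Q : Subgroup G) : Set G) := by
    rw [mem_normalizer_iff_conj] at hg ⊢
    rw [← mul_smul, ← map_mul]
    have : m⁻¹ * g * m * m⁻¹ = m⁻¹ * g := by group
    rw [this, map_mul, mul_smul, hg]
  have h4 := h2 h3
  have h5 : g = m * (m⁻¹ * g * m) * m⁻¹ := by group
  rw [h5]
  exact mul_mem (mul_mem hm h4) (inv_mem hm)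

/-- centralizers of involutions lie in `M` -/
theorem Core2.cent_le {S : Sylow 2 G} {M : Subgroup G} (h : Core2 S M)
    (hpc : ∀ t : G, orderOf t = 2 → IsPConstrained 2 ↥(centralizer ({t} : Set G)))
    (h3 : ∃ A ≤ (S : Subgroup G), (∀ a ∈ A, a * a = 1) ∧ 4 < Nat.card A)
    {t : G} (ht : orderOf t = 2) (hO : th G t ≤ M)
    (hV : ∃ V ≤ (S : Subgroup G), IsKleinFour V ∧ t ∈ V) : centralizer ({t} : Set G) ≤ M := by
  classical
  have hf : Fact (Nat.Prime 2) := ⟨Nat.prime_two⟩
  set C : Subgroup G := centralizer ({t} : Set G) with hC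
  obtain ⟨V, hVS, hV, htV⟩ := hV
  have hVC : V ≤ C := by
    intro x hx
    rw [hC, mem_centralizer_singleton_iff]
    exact IsKleinFour.comm hV hx htV
  have htC : t ∈ C := hVC htV
  have hVp : IsPGroup 2 (V.subgroupOf C) := (isPGroup_of_isKleinFour hV).comap_subtype
  obtain ⟨P, hP⟩ := hVp.exists_le_sylow
  set P' : Subgroup G := (P : Subgroup C).map C.subtype with hP'
  have hP'p : IsPGroup 2 P' := P.2.map _
  have hVP' : V ≤ P' := by
    intro x hx
    exact ⟨⟨x, hVC hx⟩, hP (by rw [mem_subgroupOf]; exact hx), rfl⟩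
  have hVM : V ≤ M := hVS.trans h.sylow_le
  have hP'M : P' ≤ M := by
    apply le_of_normalizer_inf hP'p
    intro g _ hg
    exact h.norm' (hP'p.to_le inf_le_left) inf_le_right ⟨V, le_inf hVP' hVM, hV⟩ hg
  set T : Subgroup C := (P : Subgroup C) ⊓ pPrimePCore 2 C with hT
  have hTs : IsSyl 2 T (pPrimePCore 2 C) := PPrime.inf_pPrimePCore_isSyl P
  have hKN : pPrimeCore 2 C ⊔ normalizer (T : Set C) = ⊤ := PPrime.sup_normalizer_eq_top hTs
  have hKM : (pPrimeCore 2 C).map C.subtype ≤ M := hO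
  have hPM : (P : Subgroup C) ≤ M.subgroupOf C := by
    intro x hx
    rw [mem_subgroupOf]
    exact hP'M ⟨x, hx, rfl⟩
  have hKM' : pPrimeCore 2 C ≤ M.subgroupOf C := by
    intro x hx
    rw [mem_subgroupOf]
    exact hKM ⟨x, hx, rfl⟩
  have hgoal : ∀ U : Subgroup C, U ≤ M.subgroupOf C → pPrimeCore 2 C ⊔ U = ⊤ → C ≤ M := by
    intro U hU hU2
    have : (⊤ : Subgroup C) ≤ M.subgroupOf C := by
      rw [← hU2]; exact sup_le hKM' hU
    intro x hx
    have h1 := this (mem_top (⟨x, hx⟩ : C))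
    exact mem_subgroupOf.mp h1
  by_cases hTV : ∃ U ≤ T, IsKleinFour U
  · -- `N(T) ≤ M`
    apply hgoal _ ?_ hKN
    obtain ⟨U, hUT, hU⟩ := hTV
    have h4 : normalizer ((T.map C.subtype : Subgroup G) : Set G) ≤ M := by
      apply h.norm'
      · exact (P.2.to_le inf_le_left).map _
      · rintro _ ⟨x, hx, rfl⟩
        exact hP'M ⟨x, hx.1, rfl⟩
      · exact ⟨U.map C.subtype, Subgroup.map_mono hUT, isKleinFour_map C.subtype_injective hU⟩
    intro x hx
    rw [mem_subgroupOf]
    apply h4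
    rw [Subgroup.mem_normalizer_iff] at hx ⊢
    intro z
    constructor
    · rintro ⟨y, hy, rfl⟩
      exact ⟨x * y * x⁻¹, (hx y).mp hy, by simp⟩
    · rintro ⟨y, hy, hyz⟩
      refine ⟨x⁻¹ * y * x, ?_, ?_⟩
      · apply (hx _).mpr
        have : x * (x⁻¹ * y * x) * x⁻¹ = y := by group
        rw [this]
        exact hy
      · have h5 : (y : G) = (x : G) * z * (x : G)⁻¹ := hyz
        simp only [map_mul, map_inv, Subgroup.subtype_apply, h5]
        group
  · have htc : ∀ x : C, x * ⟨t, htC⟩ = ⟨t, htC⟩ * x := by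
      intro x
      apply Subtype.ext
      exact mem_centralizer_singleton_iff.mp x.2
    have ho : orderOf (⟨t, htC⟩ : C) = 2 := by rw [Subgroup.orderOf_mk]; exact ht
    rcases loc (hpc t ht) htc ho P hTV with h5 | ⟨h5, h6⟩
    · exact hgoal _ hPM h5
    · -- a Sylow 2-subgroup of `M` above `P'`
      exfalso
      obtain ⟨m, hm, hPm⟩ := exists_conj_le_of_sylow_le S M h.sylow_le P' hP'p hP'M
      set S' : Subgroup G := MulAut.conj m • (S : Subgroup G) with hS'
      have hS'p : IsPGroup 2 S' := S.isPGroup'.map _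
      have hS'1 : S' ≠ ⊥ := by
        intro h7
        have h8 : t ∈ S' := hPm (hVP' htV)
        rw [h7, mem_bot] at h8
        rw [h8, orderOf_one] at ht
        norm_num at ht
      obtain ⟨z, hzS', hzo, hzc⟩ := H59.PCons2.exists_central_orderOf_eq hS'p hS'1
      have hzz : z * z = 1 := by
        have := pow_orderOf_eq_one z
        rwa [hzo, pow_two] at this
      have htS' : t ∈ S' := hPm (hVP' htV)
      have hzC : z ∈ C := by
        rw [hC, mem_centralizer_singleton_iff]
        exact (hzc t htS').symm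
      -- `z ∈ P`
      have hsyl : ∀ R : Subgroup G, IsPGroup 2 R → P' ≤ R → R ≤ C → R ≤ P' := by
        intro R hR hPR hRC
        have h7 : (P : Subgroup C) ≤ R.subgroupOf C := by
          intro x hx
          rw [mem_subgroupOf]
          exact hPR ⟨x, hx, rfl⟩
        have h8 := P.3 hR.comap_subtype h7
        intro x hx
        have h9 : (⟨x, hRC hx⟩ : C) ∈ (P : Subgroup C) := by
          rw [← h8]; exact hx
        exact ⟨_, h9, rfl⟩
      have hzP' : z ∈ P' := by
        have h7 : P' ⊔ zpowers z ≤ S' := sup_le hPm (by rw [zpowers_le]; exact hzS')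
        have h8 : P' ⊔ zpowers z ≤ C := by
          apply sup_le
          · exact map_subtype_le _
          · rw [zpowers_le]; exact hzC
        exact hsyl _ (hS'p.to_le h7) le_sup_left h8 (mem_sup_right (mem_zpowers z))
      obtain ⟨w, hw, hwz⟩ := hzP'
      have hwt : z = t := by
        rcases h5 w hw (by
          intro x hx
          apply Subtype.ext
          have h7 := hzc x (hPm ⟨x, hx, rfl⟩)
          have h8 : (w : G) = z := hwz
          simp only [Subgroup.coe_mul, h8]
          exact h7.symm) (by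
          apply Subtype.ext
          have h8 : (w : G) = z := hwz
          simp only [Subgroup.coe_mul, h8, Subgroup.coe_one]
          exact hzz) with h7 | h7
        · exfalso
          rw [h7, map_one] at hwz
          rw [← hwz, orderOf_one] at hzo
          norm_num at hzo
        · rw [h7] at hwz
          exact hwz.symm
      have hS'C : S' ≤ C := by
        intro x hx
        rw [hC, mem_centralizer_singleton_iff, ← hwt]
        exact hzc x hx
      have hS'P : S' ≤ P' := hsyl S' hS'p hPm hS'C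
      obtain ⟨A, hAS, hA2, hA4⟩ := h3
      have hA' : MulAut.conj m • A ≤ P' :=
        (Subgroup.pointwise_smul_le_pointwise_smul_iff.mpr hAS).trans hS'P
      have hA'C : MulAut.conj m • A ≤ C := hA'.trans (map_subtype_le _)
      have h7 := h6 ((MulAut.conj m • A).subgroupOf C) (by
        intro x hx
        rw [mem_subgroupOf] at hx
        obtain ⟨y, hy, hyx⟩ := hA' hx
        have : y = x := Subtype.ext hyx
        exact this ▸ hy) (by
        intro x hx
        rw [mem_subgroupOf, H1.SZ.mem_conj_smul] at hx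
        apply Subtype.ext
        change (x : G) * x = 1
        have h9 := hA2 _ hx
        calc (x : G) * x = m * (m⁻¹ * x * m * (m⁻¹ * x * m)) * m⁻¹ := by group
          _ = 1 := by rw [h9]; group)
      rw [H1.SZ.card_subgroupOf_of_le hA'C, H1.SZ.card_conj_smul] at h7
      omega

/-- centralizers of all involutions of `M` in `M` and `N(S) ≤ M`: `M` is strongly embedded -/
theorem strEmb {S : Sylow 2 G} {M : Subgroup G} (hM : M ≠ ⊤) (hNS : normalizer (S : Set G) ≤ M)
    (hS1 : (S : Subgroup G) ≠ ⊥)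
    (hC : ∀ t ∈ M, orderOf t = 2 → centralizer ({t} : Set G) ≤ M) : IsStronglyEmbedded M := by
  have hf : Fact (Nat.Prime 2) := ⟨Nat.prime_two⟩
  have hSM : (S : Subgroup G) ≤ M := Subgroup.le_normalizer.trans hNS
  obtain ⟨z, hzS, hzo, hzc⟩ := H59.PCons2.exists_central_orderOf_eq S.isPGroup' hS1
  refine ⟨hM, ?_, ?_⟩
  · have := Subgroup.orderOf_dvd_natCard _ (hSM hzS)
    rw [hzo] at this
    exact even_iff_two_dvd.2 this
  · intro g hg
    rw [← Nat.not_even_iff_odd]
    intro hev
    obtain ⟨w, hw⟩ := exists_prime_orderOf_dvd_card' (G := ↥(M ⊓ M.map (MulAut.conj g).toMonoidHom)) 2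
      (even_iff_two_dvd.1 hev)
    rw [← Subgroup.orderOf_coe] at hw
    obtain ⟨w, hw0⟩ := w
    obtain ⟨hw1, hw2⟩ := mem_inf.1 hw0
    simp only at hw
    have hw2' : g⁻¹ * w * g ∈ M := by
      obtain ⟨y, hy, hyw⟩ := hw2
      have h1 : g * y * g⁻¹ = w := hyw
      rw [← h1]
      have : g⁻¹ * (g * y * g⁻¹) * g = y := by group
      rwa [this]
    have horder : ∀ x y : G, orderOf (y⁻¹ * x * y) = orderOf x := by
      intro x y
      have : y⁻¹ * x * y = MulAut.conj y⁻¹ x := by simp
      rw [this, MulEquiv.orderOf_eq]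
    have horder' : ∀ x y : G, orderOf (y * x * y⁻¹) = orderOf x := by
      intro x y
      have : y * x * y⁻¹ = MulAut.conj y x := by simp
      rw [this, MulEquiv.orderOf_eq]
    -- `w` lies in a conjugate of `S` under `M`
    have hwp : IsPGroup 2 (zpowers w) := IsPGroup.of_card (n := 1) (by
      rw [Nat.card_zpowers, hw, pow_one])
    obtain ⟨m, hm, hwm⟩ := exists_conj_le_of_sylow_le S M hSM (zpowers w) hwp
      (by rw [zpowers_le]; exact hw1)
    have hwS : m⁻¹ * w * m ∈ (S : Subgroup G) := by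
      have := hwm (mem_zpowers w)
      rwa [H1.SZ.mem_conj_smul] at this
    set z1 := m * z * m⁻¹ with hz1
    have hz1w : z1 * w = w * z1 := by
      have h1 := hzc _ hwS
      calc z1 * w = m * (z * (m⁻¹ * w * m)) * m⁻¹ := by rw [hz1]; group
        _ = m * (m⁻¹ * w * m * z) * m⁻¹ := by rw [h1]
        _ = w * z1 := by rw [hz1]; group
    have h2 : g⁻¹ * z1 * g ∈ M := by
      apply hC _ hw2' (by rw [horder, hw])
      rw [mem_centralizer_singleton_iff]
      calc g⁻¹ * z1 * g * (g⁻¹ * w * g) = g⁻¹ * (z1 * w) * g := by group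
        _ = g⁻¹ * (w * z1) * g := by rw [hz1w]
        _ = g⁻¹ * w * g * (g⁻¹ * z1 * g) := by group
    have h3 : MulAut.conj (g⁻¹ * m) • (S : Subgroup G) ≤ M := by
      intro x hx
      rw [H1.SZ.mem_conj_smul] at hx
      apply hC _ h2 (by rw [horder, hz1, horder', hzo])
      rw [mem_centralizer_singleton_iff]
      have h4 := hzc _ hx
      calc x * (g⁻¹ * z1 * g) = g⁻¹ * m * ((g⁻¹ * m)⁻¹ * x * (g⁻¹ * m) * z) * (m⁻¹ * g) := by
            rw [hz1]; group
        _ = g⁻¹ * m * (z * ((g⁻¹ * m)⁻¹ * x * (g⁻¹ * m))) * (m⁻¹ * g) := by rw [h4]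
        _ = g⁻¹ * z1 * g * x := by rw [hz1]; group
    obtain ⟨l, hl, hl2⟩ := exists_conj_le_of_sylow_le S M hSM (MulAut.conj (g⁻¹ * m) • (S : Subgroup G))
      (S.isPGroup'.map _) h3
    have h5 : MulAut.conj (l⁻¹ * (g⁻¹ * m)) • (S : Subgroup G) = (S : Subgroup G) := by
      apply Subgroup.eq_of_le_of_card_ge
      · rw [map_mul, mul_smul, map_inv, Subgroup.pointwise_smul_subset_iff, inv_inv]
        exact hl2
      · rw [H1.SZ.card_conj_smul]
    have h6 := hNS (mem_normalizer_iff_conj.mpr h5)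
    have h7 : g = m * (l⁻¹ * (g⁻¹ * m))⁻¹ * l⁻¹ := by group
    apply hg
    rw [h7]
    exact mul_mem (mul_mem hm (inv_mem h6)) (inv_mem hl)

end H71.NC
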