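import Mathlib
import Cfsg.Agent.Lib.H1.SZ
import Cfsg.Agent.Lib.H74.Perf
import Cfsg.Agent.Lib.H71.Basic2

/-!
# Perfect groups acting on solvable groups with cyclic or quaternion Sylow subgroups

`act_trivial`: a finite perfect group acts trivially on such a group.
-/

set_option autoImplicit false

namespace H71.PerfAct

open Subgroup

/-- homomorphisms into a group of order `p` agreeing on a Sylow `p`-subgroup are equal -/
theorem hom_eq_of_sylow {R : Type*} [Group R] [Finite R] (p : ℕ) [hp : Fact p.Prime] (P : Sylow p R)
    (f g : R →* Multiplicative (ZMod p)) (h : ∀ x ∈ (P : Subgroup R), f x = g x) : f = g := by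
  have h1 : (P : Subgroup R) ≤ (f / g).ker := by
    intro x hx
    rw [MonoidHom.mem_ker, MonoidHom.div_apply, h x hx, div_self']
  have h2 : (f / g).ker.index ∣ p := by
    rw [Subgroup.index_ker]
    have := Subgroup.card_subgroup_dvd_card (f / g).range
    have hc : Nat.card (Multiplicative (ZMod p)) = p := by
      rw [Nat.card_congr Multiplicative.toAdd, Nat.card_zmod]
    rwa [hc] at this
  have h3 : (f / g).ker.index ∣ (P : Subgroup R).index := Subgroup.index_dvd_of_le h1
  have h4 : (f / g).ker.index = 1 := by
    rcases (Nat.dvd_prime hp.out).mp h2 with h | h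
    · exact h
    · exfalso
      rw [h] at h3
      exact P.not_dvd_index h3
  rw [Subgroup.index_eq_one] at h4
  ext x
  have : x ∈ (f / g).ker := by rw [h4]; exact Subgroup.mem_top x
  rw [MonoidHom.mem_ker, MonoidHom.div_apply, div_eq_one] at this
  rw [this]

theorem hom_finite {R : Type*} [Group R] [Finite R] (p : ℕ) [Fact p.Prime] : Finite (R →* Multiplicative (ZMod p)) := by
  exact Finite.of_injective (fun f : R →* Multiplicative (ZMod p) => (f : R → Multiplicative (ZMod p)))
    DFunLike.coe_injective

/-- a nontrivial solvable group with cyclic or quaternion Sylow subgroups, acted on by a perfect group, has a nontrivial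
invariant homomorphism to a group of prime order -/
theorem exists_fixed_hom {R K : Type*} [Group R] [Finite R] [Nontrivial R] (hs : Group.IsSolvable R)
    (hR : ∀ (p : ℕ) [Fact p.Prime] (P : Sylow p R), IsCyclic P ∨ (p = 2 ∧ ∃ n, Nonempty (P ≃* QuaternionGroup (2 ^ n))))
    [Group K] [Finite K] (hK : commutator K = ⊤) (φ : K →* MulAut R) :
    ∃ (p : ℕ) (_ : Fact p.Prime) (f : R →* Multiplicative (ZMod p)), f ≠ 1 ∧ ∀ k r, f (φ k r) = f r := by
  classical
  obtain ⟨W, hWn, -, hWp⟩ := H1.SZ.exists_normal_prime_index (⊥ : Subgroup R) bot_ne_top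
    (inferInstance)
  set p := W.index with hpdef
  have hp : Fact p.Prime := ⟨hWp⟩
  have hcM : Nat.card (Multiplicative (ZMod p)) = p := by
    rw [Nat.card_congr Multiplicative.toAdd, Nat.card_zmod]
  have e : R ⧸ W ≃* Multiplicative (ZMod p) := mulEquivOfPrimeCardEq (p := p) rfl hcM
  let f0 : R →* Multiplicative (ZMod p) := e.toMonoidHom.comp (QuotientGroup.mk' W)
  have hf0 : f0 ≠ 1 := by
    intro h
    have h1 : ∀ y : Multiplicative (ZMod p), y = 1 := by
      intro y
      obtain ⟨r, hr⟩ := (e.surjective.comp (QuotientGroup.mk'_surjective W)) y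
      rw [← hr]
      exact DFunLike.congr_fun h r
    have : Nat.card (Multiplicative (ZMod p)) = 1 := Nat.card_eq_one_iff_unique.mpr ⟨⟨fun a b => by rw [h1 a, h1 b]⟩, ⟨1⟩⟩
    rw [hcM] at this
    exact hWp.one_lt.ne' this
  have hfin : Finite (R →* Multiplicative (ZMod p)) := hom_finite p
  obtain ⟨P⟩ : Nonempty (Sylow p R) := inferInstance
  -- the action on the homomorphisms
  let ψ : K →* MulAut (R →* Multiplicative (ZMod p)) :=
    { toFun := fun k =>
        { toFun := fun f => f.comp (φ k⁻¹).toMonoidHom
          invFun := fun f => f.comp (φ k).toMonoidHom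
          left_inv := fun f => by
            ext r
            simp
          right_inv := fun f => by
            ext r
            simp
          map_mul' := fun f g => by
            ext r
            simp }
      map_one' := by ext f r; simp
      map_mul' := fun k l => by ext f r; simp }
  have hψ : ∀ (k : K) (f : R →* Multiplicative (ZMod p)) (r : R), ψ k f r = f (φ k⁻¹ r) := fun _ _ _ => rfl
  have key : ∀ (k : K) (f : R →* Multiplicative (ZMod p)), ψ k f = f := by
    rcases hR p P with hc | ⟨hp2, n, ⟨q⟩⟩
    · -- cyclic case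
      obtain ⟨x, hx⟩ := hc.exists_generator
      let ev : (R →* Multiplicative (ZMod p)) →* Multiplicative (ZMod p) := MonoidHom.eval (x : R)
      have hev : Function.Injective ev := by
        intro f g hfg
        apply hom_eq_of_sylow p P
        intro y hy
        obtain ⟨m, hm⟩ := Subgroup.mem_zpowers_iff.mp (hx ⟨y, hy⟩)
        have hm' : (x : R) ^ m = y := by
          have := congrArg Subtype.val hm
          simpa using this
        have : f (x : R) = g (x : R) := hfg
        rw [← hm', map_zpow, map_zpow, this]
      have : IsCyclic (R →* Multiplicative (ZMod p)) := isCyclic_of_injective ev hev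
      intro k f
      have h1 : Group.IsSolvable (MulAut (R →* Multiplicative (ZMod p))) := by
        apply Group.isSolvable_of_comm
        intro a b
        have e := IsCyclic.mulAutMulEquiv (R →* Multiplicative (ZMod p))
        apply e.injective
        rw [map_mul, map_mul, mul_comm]
      have h2 := H74.Perf.hom_trivial hK ψ h1 k
      rw [h2]; rfl
    · -- quaternion case
      have hcard : Nat.card (R →* Multiplicative (ZMod p)) ≤ 4 := by
        let ev : (R →* Multiplicative (ZMod p)) → Multiplicative (ZMod p) × Multiplicative (ZMod p) :=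
          fun f => (f (q.symm (QuaternionGroup.a 1) : P), f (q.symm (QuaternionGroup.xa 0) : P))
        have hev : Function.Injective ev := by
          intro f g hfg
          apply hom_eq_of_sylow p P
          intro y hy
          have h1 : f (q.symm (QuaternionGroup.a 1) : P) = g (q.symm (QuaternionGroup.a 1) : P) := congrArg Prod.fst hfg
          have h2 : f (q.symm (QuaternionGroup.xa 0) : P) = g (q.symm (QuaternionGroup.xa 0) : P) := congrArg Prod.snd hfg
          have ha : ∀ i : ZMod (2 * 2 ^ n), f (q.symm (QuaternionGroup.a i) : P) = g (q.symm (QuaternionGroup.a i) : P) := by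
            intro i
            have : NeZero (2 * 2 ^ n) := ⟨by positivity⟩
            have hi : (QuaternionGroup.a i : QuaternionGroup (2 ^ n)) = (QuaternionGroup.a 1) ^ (i.val) := by
              rw [QuaternionGroup.a_one_pow, ZMod.natCast_val, ZMod.cast_id]
            rw [hi, map_pow, Subgroup.coe_pow, map_pow, map_pow, h1]
          obtain ⟨z, hz⟩ : ∃ z : QuaternionGroup (2 ^ n), q.symm z = ⟨y, hy⟩ := q.symm.surjective _
          have hy' : y = ((q.symm z : P) : R) := by rw [hz]
          rw [hy']
          rcases z with i | i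
          · exact ha i
          · have hx : (QuaternionGroup.xa i : QuaternionGroup (2 ^ n)) = QuaternionGroup.xa 0 * QuaternionGroup.a i := by
              rw [QuaternionGroup.xa_mul_a, zero_add]
            rw [hx, map_mul, Subgroup.coe_mul, map_mul, map_mul, h2, ha i]
        have h1 := Nat.card_le_card_of_injective ev hev
        rw [Nat.card_prod, hcM] at h1
        calc _ ≤ p * p := h1
          _ = 4 := by rw [hp2]
      intro k f
      let act : MulAction K (R →* Multiplicative (ZMod p)) := MulAction.compHom _ ψ
      exact H74.Perf.act_trivial hK hcard k f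
  refine ⟨p, hp, f0, hf0, ?_⟩
  intro k r
  have := DFunLike.congr_fun (key k⁻¹ f0) r
  rw [hψ, inv_inv] at this
  exact this

/-- a perfect group acts trivially on a solvable group with cyclic or quaternion Sylow subgroups -/
theorem act_trivial {K : Type*} [Group K] [Finite K] (hK : commutator K = ⊤) (n : ℕ) : ∀ (R : Type*) [Group R] [Finite R],
    Nat.card R = n → Group.IsSolvable R →
    (∀ (p : ℕ) [Fact p.Prime] (P : Subgroup R), IsPGroup p P → IsCyclic P ∨ (p = 2 ∧ ∃ n, Nonempty (P ≃* QuaternionGroup (2 ^ n)))) →
    ∀ (φ : K →* MulAut R) (k : K) (r : R), φ k r = r := by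
  induction n using Nat.strong_induction_on with
  | _ n ih =>
    intro R _ _ hn hs hR φ
    rcases subsingleton_or_nontrivial R with hsub | hnt
    · intro k r; exact Subsingleton.elim _ _
    obtain ⟨p, hp, f, hf1, hf⟩ := exists_fixed_hom hs (fun p _ P => hR p P P.isPGroup') hK φ
    -- the kernel is invariant
    have hinv : ∀ k : K, ∀ r ∈ f.ker, φ k r ∈ f.ker := by
      intro k r hr
      rw [MonoidHom.mem_ker] at hr ⊢
      rw [hf, hr]
    have hlt : Nat.card f.ker < n := by
      rw [← hn]
      apply lt_of_le_of_ne (Nat.card_le_card_of_injective _ f.ker.subtype_injective)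
      intro h
      have := Subgroup.eq_top_of_card_eq _ h
      rw [MonoidHom.ker_eq_top_iff] at this
      exact hf1 this
    let φ' : K →* MulAut f.ker :=
      { toFun := fun k =>
          { toFun := fun r => ⟨φ k r, hinv k r r.2⟩
            invFun := fun r => ⟨φ k⁻¹ r, hinv k⁻¹ r r.2⟩
            left_inv := fun r => by ext; simp
            right_inv := fun r => by ext; simp
            map_mul' := fun r s => by ext; simp }
        map_one' := by ext r; simp
        map_mul' := fun k l => by ext r; simp }
    have hR' : ∀ (p : ℕ) [Fact p.Prime] (P : Subgroup f.ker), IsPGroup p P →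
        IsCyclic P ∨ (p = 2 ∧ ∃ n, Nonempty (P ≃* QuaternionGroup (2 ^ n))) := by
      intro p _ P hP
      have e : P ≃* P.map f.ker.subtype := P.equivMapOfInjective _ f.ker.subtype_injective
      rcases hR p (P.map f.ker.subtype) (hP.map _) with h | ⟨h2, m, ⟨h⟩⟩
      · left; exact isCyclic_of_injective e.toMonoidHom e.injective
      · right; exact ⟨h2, m, ⟨e.trans h⟩⟩
    have hsk : Group.IsSolvable f.ker := inferInstance
    have htriv := ih _ hlt f.ker rfl hsk hR' φ'
    have htriv' : ∀ (k : K) (r : R), r ∈ f.ker → φ k r = r := by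
      intro k r hr
      have := congrArg Subtype.val (htriv k ⟨r, hr⟩)
      exact this
    intro k r
    -- the cocycle is a homomorphism
    have hc : ∀ (k : K) (r : R), φ k⁻¹ r * r⁻¹ ∈ f.ker := by
      intro k r
      rw [MonoidHom.mem_ker, map_mul f, map_inv f, hf, mul_inv_cancel]
    let c : K →* f.ker :=
      MonoidHom.mk' (fun k => ⟨φ k⁻¹ r * r⁻¹, hc k r⟩) (by
        intro k l
        ext
        change φ (k * l)⁻¹ r * r⁻¹ = (φ k⁻¹ r * r⁻¹) * (φ l⁻¹ r * r⁻¹)
        have h1 : φ (k * l)⁻¹ r = φ l⁻¹ (φ k⁻¹ r) := by
          rw [mul_inv_rev, map_mul]; rfl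
        have h2 : φ k⁻¹ r = (φ k⁻¹ r * r⁻¹) * r := by group
        rw [h1]
        conv_lhs => rw [h2, map_mul, htriv' _ _ (hc k r)]
        rw [mul_assoc])
    have h1 := H74.Perf.hom_trivial hK c hsk k⁻¹
    have h2 := congrArg Subtype.val h1
    change φ (k⁻¹)⁻¹ r * r⁻¹ = 1 at h2
    rw [inv_inv, mul_inv_eq_one] at h2
    exact h2

/-- in a group without nontrivial normal subgroups of order coprime to `|H|`, a normal Hall subgroup contains its centralizer -/
theorem centralizer_le {Γ : Type*} [Group Γ] [Finite Γ] (H : Subgroup Γ) [H.Normal] (hHall : (Nat.card H).Coprime H.index)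
    (htriv : ∀ D : Subgroup Γ, D.Normal → (Nat.card D).Coprime (Nat.card H) → D = ⊥) :
    centralizer (H : Set Γ) ≤ H := by
  set C := centralizer (H : Set Γ) with hC
  have hCn : C.Normal := inferInstance
  have hZn : (H.subgroupOf C).Normal := inferInstance
  have hidx : (H.subgroupOf C).index ∣ H.index := Subgroup.relIndex_dvd_index_of_normal H C
  have hcardZ : Nat.card (H.subgroupOf C) ∣ Nat.card H := by
    have e1 : Nat.card (H.subgroupOf C) = Nat.card (H ⊓ C : Subgroup Γ) := by
      rw [← Subgroup.subgroupOf_map_subtype, Subgroup.card_map_of_injective C.subtype_injective]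
    rw [e1]
    exact Subgroup.card_dvd_of_le inf_le_left
  have hcop : (Nat.card (H.subgroupOf C)).Coprime (H.subgroupOf C).index :=
    (hHall.coprime_dvd_left hcardZ).coprime_dvd_right hidx
  obtain ⟨D, hD⟩ := Subgroup.exists_right_complement'_of_coprime hcop
  have hDcard : Nat.card D = (H.subgroupOf C).index := hD.symm.index_eq_card.symm
  have hDidx : D.index = Nat.card (H.subgroupOf C) := hD.index_eq_card
  -- `D` is normal in `C`
  have hDn : D.Normal := by
    constructor
    intro d hd c
    obtain ⟨z, hz, d', hd', rfl⟩ : ∃ z ∈ H.subgroupOf C, ∃ d' ∈ D, z * d' = c := by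
      have h1 : (c : C) ∈ (H.subgroupOf C) ⊔ D := by rw [hD.sup_eq_top]; exact Subgroup.mem_top c
      exact Subgroup.mem_sup_of_normal_left.mp h1
    have hzc : ∀ y : C, z * y = y * z := by
      intro y
      have := Subgroup.mem_centralizer_iff.mp y.2 (z : Γ) hz
      exact Subtype.ext this
    have h1 : d' * d * d'⁻¹ ∈ D := D.mul_mem (D.mul_mem hd' hd) (D.inv_mem hd')
    have h2 : z * d' * d * (z * d')⁻¹ = d' * d * d'⁻¹ := by
      have : z * d' * d * (z * d')⁻¹ = (z * (d' * d * d'⁻¹)) * z⁻¹ := by group
      rw [this, hzc, mul_inv_cancel_right]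
    rw [h2]; exact h1
  -- `D` is normal in `Γ`
  have hD'n : (D.map C.subtype).Normal := by
    constructor
    rintro _ ⟨d, hd, rfl⟩ g
    have hmem : g * (d : Γ) * g⁻¹ ∈ C := hCn.conj_mem _ d.2 g
    refine ⟨⟨g * d * g⁻¹, hmem⟩, ?_, rfl⟩
    apply H71.Basic2.mem_of_orderOf_coprime_index
    rw [Subgroup.orderOf_mk, hDidx]
    have h1 : orderOf (g * (d : Γ) * g⁻¹) = orderOf (d : Γ) := by
      have := orderOf_injective (MulAut.conj g).toMonoidHom (MulAut.conj g).injective (d : Γ)
      simpa using this
    rw [h1, Subgroup.orderOf_coe]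
    have h2 : orderOf d ∣ Nat.card D := Subgroup.orderOf_dvd_natCard D hd
    rw [hDcard] at h2
    exact (hcop.symm.coprime_dvd_left h2)
  have hbot := htriv _ hD'n (by
    rw [Subgroup.card_map_of_injective C.subtype_injective, hDcard]
    exact (hHall.coprime_dvd_right hidx).symm)
  have h1 : Nat.card D = 1 := by
    rw [← Subgroup.card_map_of_injective (f := C.subtype) C.subtype_injective, hbot, Subgroup.card_bot]
  rw [hDcard] at h1
  exact Subgroup.relIndex_eq_one.mp h1

end H71.PerfAct
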