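import Mathlib

set_option autoImplicit false

/-! Counting non-identity elements covered by conjugates of TI-subgroups. -/

namespace H71.TICount

variable {K : Type*} [Group K] [Finite K] {ι : Type*} [Fintype ι]

/-- the map used for counting -/
noncomputable def conjMap (D N : ι → Subgroup K) (z : Σ i, (K ⧸ N i) × {d : D i // d ≠ 1}) : {x : K // x ≠ 1} :=
  ⟨z.2.1.out * (z.2.2.1 : K) * z.2.1.out⁻¹, fun h => z.2.2.2 (Subtype.ext (by
    have h1 : (z.2.2.1 : K) = z.2.1.out⁻¹ * (z.2.1.out * (z.2.2.1 : K) * z.2.1.out⁻¹) * z.2.1.out := by group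
    rw [h] at h1
    rw [h1]; simp))⟩

theorem conjMap_injective (D N : ι → Subgroup K)
    (h : ∀ i j (k d : K), d ∈ D i → d ≠ 1 → k * d * k⁻¹ ∈ D j → i = j ∧ k ∈ N i) :
    Function.Injective (conjMap D N) := by
  rintro ⟨i, q, d⟩ ⟨j, q', e⟩ heq
  have h1 : q.out * (d.1 : K) * q.out⁻¹ = q'.out * (e.1 : K) * q'.out⁻¹ := congrArg Subtype.val heq
  have h2 : (q'.out⁻¹ * q.out) * (d.1 : K) * (q'.out⁻¹ * q.out)⁻¹ = (e.1 : K) := by
    calc (q'.out⁻¹ * q.out) * (d.1 : K) * (q'.out⁻¹ * q.out)⁻¹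
        = q'.out⁻¹ * (q.out * (d.1 : K) * q.out⁻¹) * q'.out := by group
      _ = q'.out⁻¹ * (q'.out * (e.1 : K) * q'.out⁻¹) * q'.out := by rw [h1]
      _ = e.1 := by group
  obtain ⟨hij, hk⟩ := h i j (q'.out⁻¹ * q.out) d.1 d.1.2 (fun h' => d.2 (Subtype.ext h')) (by rw [h2]; exact e.1.2)
  subst hij
  have hq : q = q' := by
    rw [← QuotientGroup.out_eq' q, ← QuotientGroup.out_eq' q', eq_comm, QuotientGroup.eq]
    exact hk
  subst hq
  have h3 : (d.1 : K) = e.1 := by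
    rw [← h2]; group
  have h4 : d = e := Subtype.ext (Subtype.ext h3)
  rw [h4]

theorem card_ne_one (D : Subgroup K) : Nat.card {d : D // d ≠ 1} = Nat.card D - 1 := by
  classical
  haveI := Fintype.ofFinite D
  rw [Nat.card_eq_fintype_card, Nat.card_eq_fintype_card, Fintype.card_subtype_compl, Fintype.card_subtype_eq]

theorem card_ne_one' : Nat.card {d : K // d ≠ 1} = Nat.card K - 1 := by
  classical
  haveI := Fintype.ofFinite K
  rw [Nat.card_eq_fintype_card, Nat.card_eq_fintype_card, Fintype.card_subtype_compl, Fintype.card_subtype_eq]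

theorem card_sigma (D N : ι → Subgroup K) :
    Nat.card (Σ i, (K ⧸ N i) × {d : D i // d ≠ 1}) = ∑ i, (N i).index * (Nat.card (D i) - 1) := by
  rw [Nat.card_sigma]
  apply Finset.sum_congr rfl
  intro i _
  rw [Nat.card_prod, card_ne_one]
  rfl

theorem sum_le (D N : ι → Subgroup K)
    (h : ∀ i j (k d : K), d ∈ D i → d ≠ 1 → k * d * k⁻¹ ∈ D j → i = j ∧ k ∈ N i) :
    ∑ i, (N i).index * (Nat.card (D i) - 1) ≤ Nat.card K - 1 := by
  rw [← card_sigma, ← card_ne_one']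
  exact Nat.card_le_card_of_injective _ (conjMap_injective D N h)

theorem sum_eq (D N : ι → Subgroup K)
    (h : ∀ i j (k d : K), d ∈ D i → d ≠ 1 → k * d * k⁻¹ ∈ D j → i = j ∧ k ∈ N i)
    (hN : ∀ i, ∀ k ∈ N i, ∀ d ∈ D i, k * d * k⁻¹ ∈ D i)
    (hcov : ∀ x : K, x ≠ 1 → ∃ i, ∃ k : K, k * x * k⁻¹ ∈ D i) :
    ∑ i, (N i).index * (Nat.card (D i) - 1) = Nat.card K - 1 := by
  rw [← card_sigma, ← card_ne_one']
  refine Nat.card_congr (Equiv.ofBijective _ ⟨conjMap_injective D N h, ?_⟩)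
  rintro ⟨x, hx⟩
  obtain ⟨i, k, hk⟩ := hcov x hx
  obtain ⟨c, hc⟩ := QuotientGroup.mk_out_eq_mul (N i) k⁻¹
  -- out = k⁻¹ * c
  set q : K ⧸ N i := QuotientGroup.mk k⁻¹ with hq
  have hmem : q.out⁻¹ * x * q.out ∈ D i := by
    rw [hc]
    have := hN i (c : K)⁻¹ ((N i).inv_mem c.2) _ hk
    have e : (c : K)⁻¹ * (k * x * k⁻¹) * (c : K)⁻¹⁻¹ = (k⁻¹ * (c : K))⁻¹ * x * (k⁻¹ * (c : K)) := by group
    rwa [e] at this
  refine ⟨⟨i, q, ⟨⟨_, hmem⟩, ?_⟩⟩, ?_⟩
  · intro h'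
    apply hx
    have h2 : q.out⁻¹ * x * q.out = 1 := congrArg Subtype.val h'
    have h3 : x = q.out * (q.out⁻¹ * x * q.out) * q.out⁻¹ := by group
    rw [h3, h2]; group
  · apply Subtype.ext
    change q.out * (q.out⁻¹ * x * q.out) * q.out⁻¹ = x
    group

end H71.TICount
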